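import Groth.Agent.Lib.ArSurf29.DivSum
import Groth.Agent.Lib.HodgeIndex.NegCurves
import Groth.Agent.Lib.Snapper.PushEuler
import Groth.Agent.Lib.HodgeIndex.H2Vanish
import Groth.Agent.Lib.SurfRR28.Proper

/-!
# The restriction sequence to a divisor, in dimensions
-/

set_option autoImplicit false
set_option backward.isDefEq.respectTransparency false
set_option linter.all false
set_option maxHeartbeats 4000000

universe u

open CategoryTheory CategoryTheory.Limits AlgebraicGeometry TopologicalSpace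

noncomputable section

namespace GrothLib.HypSq28

open GrothLib.Cube (Pic clsMod pull)
open GrothLib.HodgeIndex (rep isInv_rep cls_rep chi euler_eq_chi)

/-- Three vector spaces in an exact sequence. -/
theorem finrank_le_add_of_exact {k A B D : Type*} [Field k] [AddCommGroup A] [Module k A] [AddCommGroup B]
    [Module k B] [AddCommGroup D] [Module k D] [FiniteDimensional k A] [FiniteDimensional k B] [FiniteDimensional k D]
    {f : A →ₗ[k] B} {g : B →ₗ[k] D} (h : Function.Exact f g) :
    Module.finrank k B ≤ Module.finrank k A + Module.finrank k D := by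
  have h1 := g.finrank_range_add_finrank_ker
  rw [h.linearMap_ker_eq] at h1
  have h2 := Submodule.finrank_le (LinearMap.range g)
  have h3 := LinearMap.finrank_range_le f
  omega

variable (k : Type u) [Field k] {X Y : Scheme.{u}} [X.Over (Spec (CommRingCat.of k))]
  [IsProper (X ↘ Spec (CommRingCat.of k))] [Y.Over (Spec (CommRingCat.of k))]
  [IsProper (Y ↘ Spec (CommRingCat.of k))]
  (i : Y ⟶ X) [IsClosedImmersion i] (hi : i ≫ X ↘ Spec (CommRingCat.of k) = Y ↘ Spec (CommRingCat.of k))
  (hI : PicF.IsInvertible (ClSub.idealMod i.ker)) (hY : topologicalKrullDim Y ≤ 1)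

include hi hY in
/-- The long exact sequence of `0 → z(-Y) → z → z|_Y → 0`, in dimensions. -/
theorem seq (z : Pic X) :
    (∀ {n : ℕ} {a b c : ℕ}, a = Module.finrank k (Coh.HH X (rep (z * clsMod hI)) n) →
        b = Module.finrank k (Coh.HH X (rep z) n) → c = Module.finrank k (Coh.HH Y (rep (pull i z)) n) →
        b ≤ a + c) ∧
      (Module.finrank k (Coh.HH X (rep (z * clsMod hI)) 0) ≤ Module.finrank k (Coh.HH X (rep z) 0)) ∧
      (Module.finrank k (Coh.HH X (rep (z * clsMod hI)) 1) = 0 →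
        Module.finrank k (Coh.HH X (rep z) 0) =
          Module.finrank k (Coh.HH X (rep (z * clsMod hI)) 0) + Module.finrank k (Coh.HH Y (rep (pull i z)) 0)) ∧
      (Module.finrank k (Coh.HH X (rep (z * clsMod hI)) 1) = 0 →
        Module.finrank k (Coh.HH X (rep (z * clsMod hI)) 2) = 0 →
        Module.finrank k (Coh.HH X (rep z) 1) = Module.finrank k (Coh.HH Y (rep (pull i z)) 1)) ∧
      (Module.finrank k (Coh.HH X (rep z) 2) ≤ Module.finrank k (Coh.HH X (rep (z * clsMod hI)) 2)) ∧
      (Module.finrank k (Coh.HH Y (rep (pull i z)) 1) = 0 →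
        Module.finrank k (Coh.HH X (rep (z * clsMod hI)) 2) = Module.finrank k (Coh.HH X (rep z) 2)) ∧
      chi k z = chi k (z * clsMod hI) + chi k (pull i z) := by
  haveI := Euler.isNoetherian_of_proper (X := X) k
  haveI := Euler.isNoetherian_of_proper (X := Y) k
  let L := rep z
  have hL : PicF.IsInvertible L := isInv_rep z
  have hlf := Euler.isFinLocFree_of_isInvertible hL
  have hLY : PicF.IsInvertible ((Scheme.Modules.pullback i).obj L) := Ample.isInvertible_pullback i hL
  haveI : ((Scheme.Modules.pullback i).obj L).IsQuasicoherent :=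
    Euler.isQuasicoherent_of_isFinLocFree (Euler.isFinLocFree_of_isInvertible hLY)
  let I := i.ker
  haveI := Euler.epi_toSubscheme I
  let S := ShortComplex.mk (ClSub.idealModι I) (ClSub.toSubscheme I) (kernel.condition _)
  haveI : Mono S.f := inferInstanceAs (Mono (kernel.ι (ClSub.toSubscheme I)))
  haveI : Epi S.g := Euler.epi_toSubscheme I
  have hS : S.ShortExact := { exact := ShortComplex.exact_of_f_is_kernel _ (kernelIsKernel _) }
  let T := S.map (Euler.tF L)
  have hT : T.ShortExact := OX.tensor_map_shortExact (OX.flat_of_isFinLocFree hlf) hS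
  have hc₁ : Coh.IsCoh T.X₁ := Euler.isCoh_tF (Euler.isCoh_of_isInvertible hI) hlf
  have hc₂ : Coh.IsCoh T.X₂ := Euler.isCoh_tF (Kleiman.isCoh_O (X := X) k) hlf
  have hc₃ : Coh.IsCoh T.X₃ := Euler.isCoh_tF (QCoh.pushUnit_isCoh I.subschemeι) hlf
  -- the terms
  have hW₁ : PicF.IsInvertible (CohB1.tensorMod (ClSub.idealMod I) L) := Ample.isInvertible_tensorMod hI hL
  have hc : clsMod hW₁ = z * clsMod hI := by
    rw [Cube.clsMod_tensorMod hI hL, cls_rep, mul_comm]
  obtain ⟨w₁⟩ := (Cube.clsMod_eq_iff hW₁ (isInv_rep _)).1 (hc.trans (cls_rep _).symm)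
  let e₁ : T.X₁ ≅ rep (z * clsMod hI) := w₁
  let e₂ : T.X₂ ≅ rep z := OX.tensorUnitLeftIso L
  haveI := ProjFormula.isIso_projHom i hlf (Coh.structureModule Y)
  let e₃ : T.X₃ ≅ (Scheme.Modules.pushforward i).obj ((Scheme.Modules.pullback i).obj L) :=
    ((OX.tensorBraiding (X := X)).app L).app _ ≪≫
    ((DCoh.tensorBi (X := X)).obj L).mapIso (ArSurf29.pushUnitIsoQuot i).symm ≪≫
      asIso (ProjFormula.projHom i L (Coh.structureModule Y)) ≪≫
      (Scheme.Modules.pushforward i).mapIso (Euler.tFUnitIso _)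
  have hcY : clsMod hLY = pull i z := by rw [Cube.clsMod_pullback i hL, cls_rep]
  obtain ⟨w₃⟩ := (Cube.clsMod_eq_iff hLY (isInv_rep _)).1 (hcY.trans (cls_rep _).symm)
  have f₁ : ∀ n, Module.finrank k (Coh.HH X T.X₁ n) = Module.finrank k (Coh.HH X (rep (z * clsMod hI)) n) := fun n =>
    (Euler.hhEquiv (A := k) e₁ n).finrank_eq
  have f₂ : ∀ n, Module.finrank k (Coh.HH X T.X₂ n) = Module.finrank k (Coh.HH X (rep z) n) := fun n =>
    (Euler.hhEquiv (A := k) e₂ n).finrank_eq
  have f₃ : ∀ n, Module.finrank k (Coh.HH X T.X₃ n) = Module.finrank k (Coh.HH Y (rep (pull i z)) n) := fun n => by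
    obtain ⟨e⟩ := Snapper.nonempty_HH_linearEquiv_pushforward (A := k) i hi ((Scheme.Modules.pullback i).obj L) n
    rw [(Euler.hhEquiv (A := k) e₃ n).finrank_eq, ← e.finrank_eq, (Euler.hhEquiv (A := k) w₃ n).finrank_eq]
  haveI hf₁ := fun n => Euler.finiteDimensional_HH k hc₁ n
  haveI hf₂ := fun n => Euler.finiteDimensional_HH k hc₂ n
  haveI hf₃ := fun n => Euler.finiteDimensional_HH k hc₃ n
  have hY2 : Subsingleton (Coh.HH X T.X₃ 2) := by
    obtain ⟨e⟩ := Snapper.nonempty_HH_linearEquiv_pushforward (A := k) i hi ((Scheme.Modules.pullback i).obj L) 2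
    haveI : Subsingleton (Coh.HH Y ((Scheme.Modules.pullback i).obj L) 2) :=
      Euler.subsingleton_HH_of_dim_le_one (A := k) hY _ 2 le_rfl
    exact ((Euler.hhEquiv (A := k) e₃ 2).trans e.symm).toEquiv.subsingleton
  have hA := fun n => Cohom.exact₁ (A := k) hT n
  have hB := fun n => Cohom.exact₂ (A := k) hT n
  have hD := fun n => Cohom.exact₃ (A := k) hT n
  have hinj0 : Function.Injective (Cohom.hhMap k T.f 0) := by
    exact Euler.hhMap_zero_injective (A := k) hT
  refine ⟨fun {n a b c} ha hb hc' => ?_, ?_, fun h1 => ?_, fun h1 h2 => ?_, ?_, fun h1 => ?_, ?_⟩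
  · rw [ha, hb, hc', ← f₁, ← f₂, ← f₃]
    exact finrank_le_add_of_exact (hB n)
  · rw [← f₁, ← f₂]
    exact LinearMap.finrank_le_finrank_of_injective hinj0
  · haveI : Subsingleton (Coh.HH X T.X₁ 1) := Module.finrank_zero_iff.1 ((f₁ 1).trans h1)
    have hsurj : Function.Surjective (Cohom.hhMap k T.g 0) := fun x =>
      (hD 0 x).1 (Subsingleton.elim _ _)
    have h := (Cohom.hhMap k T.g 0).finrank_range_add_finrank_ker
    rw [LinearMap.range_eq_top.2 hsurj, finrank_top, (hB 0).linearMap_ker_eq,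
      LinearMap.finrank_range_of_inj hinj0, f₁, f₂, f₃] at h
    omega
  · haveI : Subsingleton (Coh.HH X T.X₁ 1) := Module.finrank_zero_iff.1 ((f₁ 1).trans h1)
    haveI : Subsingleton (Coh.HH X T.X₁ 2) := Module.finrank_zero_iff.1 ((f₁ 2).trans h2)
    have hs : Function.Surjective (Cohom.hhMap k T.g 1) := fun x => (hD 1 x).1 (Subsingleton.elim _ _)
    have hj : Function.Injective (Cohom.hhMap k T.g 1) := (injective_iff_map_eq_zero _).2 fun x hx => by
      obtain ⟨w, rfl⟩ := (hB 1 x).1 hx
      rw [Subsingleton.elim w 0, map_zero]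
    rw [← f₂, ← f₃]
    exact (LinearEquiv.ofBijective _ ⟨hj, hs⟩).finrank_eq
  · rw [← f₁, ← f₂]
    refine le_trans (finrank_le_add_of_exact (hB 2)) ?_
    rw [Module.finrank_zero_of_subsingleton (M := Coh.HH X T.X₃ 2), add_zero]
  · haveI : Subsingleton (Coh.HH X T.X₃ 1) := Module.finrank_zero_iff.1 ((f₃ 1).trans h1)
    have hs : Function.Surjective (Cohom.hhMap k T.f 2) := fun x => (hB 2 x).1 (Subsingleton.elim _ _)
    have hj : Function.Injective (Cohom.hhMap k T.f 2) := (injective_iff_map_eq_zero _).2 fun x hx => by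
      obtain ⟨w, rfl⟩ := (hA 1 x).1 hx
      rw [Subsingleton.elim w 0, map_zero]
    rw [← f₁, ← f₂]
    exact (LinearEquiv.ofBijective _ ⟨hj, hs⟩).finrank_eq
  · have h := Euler.euler_additive k hT hc₁ hc₂ hc₃
    rw [Euler.euler_of_iso k e₁, Euler.euler_of_iso k e₂, Euler.euler_of_iso k e₃,
      Snapper.euler_pushforward i hi ((Scheme.Modules.pullback i).obj L), Euler.euler_of_iso k w₃] at h
    exact h

end GrothLib.HypSq28
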