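import Groth.Agent.Lib.DivPart.Basic
import Groth.Agent.Lib.BlowUp.EffCartier
import Groth.Prelude.Def_ClSub2

/-!
# Containments of effective divisors
-/

set_option autoImplicit false
set_option backward.isDefEq.respectTransparency false
set_option linter.all false

universe u

open CategoryTheory AlgebraicGeometry TopologicalSpace

noncomputable section

namespace GrothLib.HypSq28

open GrothLib.CartierDescent (stalkIdeal stalkIdeal_eq_top_iff stalkIdeal_map_specializes exists_stalk_generator)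

/-- The inverse image of a divisor not containing the image of the generic point is a divisor. -/
theorem isEffCartier_comap_dominant {X Y : Scheme.{u}} [IsIntegral X] (f : X ⟶ Y) {D : Y.IdealSheafData}
    (hD : _root_.BlowUp.IsEffCartierIdeal D) (hη : f (genericPoint X) ∉ D.support) :
    _root_.BlowUp.IsEffCartierIdeal (D.comap f) := by
  intro z
  obtain ⟨U, hxU, a, ha, e⟩ := hD (f z)
  obtain ⟨V, hzV, hV⟩ := GrothLib.BlowUp.exists_affine_mem_le (W := f ⁻¹ᵁ U.1) (x := z) hxU
  haveI : Nonempty (V.1 : Scheme.{u}) := ⟨⟨z, hzV⟩⟩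
  have hne : f.appLE U.1 V.1 hV a ≠ 0 := by
    intro h0
    apply hη
    have hηV : genericPoint X ∈ V.1 := (genericPoint_specializes z).mem_open V.1.2 hzV
    have hηU : f (genericPoint X) ∈ U.1 := hV hηV
    have h1 : f (genericPoint X) ∈ (D.support : Set Y) ∩ U.1 := by
      rw [D.coe_support_inter, e]
      refine ⟨(Scheme.mem_zeroLocus_iff Y _ _).2 fun c hc hmem => ?_, hηU⟩
      obtain ⟨d, rfl⟩ := Ideal.mem_span_singleton.1 hc
      rw [Scheme.basicOpen_mul] at hmem
      have h2 : genericPoint X ∈ f ⁻¹ᵁ Y.basicOpen a ⊓ V.1 := ⟨hmem.1, hηV⟩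
      have h3 : X.basicOpen (f.appLE U.1 V.1 hV a) = V.1 ⊓ f ⁻¹ᵁ Y.basicOpen a :=
        Scheme.basicOpen_appLE _ _ _ _ _
      rw [h0, Scheme.basicOpen_zero, inf_comm] at h3
      exact (h3.symm ▸ h2 : genericPoint X ∈ (⊥ : X.Opens))
    exact h1.1
  refine ⟨V, hzV, f.appLE U.1 V.1 hV a, mem_nonZeroDivisors_of_ne_zero hne, ?_⟩
  rw [GrothLib.BlowUp.ideal_comap_eq_map D f U V hV, e, Ideal.map_span, Set.image_singleton]

/-- A divisor containing two distinct integral divisors contains their sum. -/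
theorem le_mul_of_le {X : Scheme.{u}} [IsLocallyNoetherian X] {A B J : X.IdealSheafData}
    [IsIntegral A.subscheme] [IsIntegral B.subscheme] (hA : _root_.BlowUp.IsEffCartierIdeal A)
    (hB : _root_.BlowUp.IsEffCartierIdeal B) (hne : A ≠ B) (h₁ : J ≤ A) (h₂ : J ≤ B) : J ≤ A * B := by
  refine DivPart.le_of_stalkIdeal fun x f hf => ?_
  show f ∈ DivPart.stalkHom x (A * B)
  rw [map_mul]
  obtain ⟨a, ha, ha'⟩ := exists_stalk_generator hA x
  obtain ⟨b, hb, hb'⟩ := exists_stalk_generator hB x
  show f ∈ stalkIdeal A x * stalkIdeal B x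
  rw [ha', hb', Ideal.span_singleton_mul_span_singleton]
  have f1 : f ∈ Ideal.span {a} := ha' ▸ DivPart.stalkIdeal_mono h₁ x hf
  have f2 : f ∈ Ideal.span {b} := hb' ▸ DivPart.stalkIdeal_mono h₂ x hf
  obtain ⟨c, rfl⟩ := Ideal.mem_span_singleton.1 f1
  by_cases hau : IsUnit a
  · rw [Ideal.span_singleton_mul_left_unit hau]; exact f2
  by_cases hbu : IsUnit b
  · rw [Ideal.span_singleton_mul_right_unit hbu]; exact f1
  have hxA : x ∈ A.support := by
    by_contra h; exact hau (Ideal.span_singleton_eq_top.1 (ha'.symm.trans ((stalkIdeal_eq_top_iff _ _).2 h)))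
  have hxB : x ∈ B.support := by
    by_contra h; exact hbu (Ideal.span_singleton_eq_top.1 (hb'.symm.trans ((stalkIdeal_eq_top_iff _ _).2 h)))
  have hpa : (Ideal.span {a}).IsPrime := ha' ▸ DivPart.stalkIdeal_isPrime hxA
  have hpb : (Ideal.span {b}).IsPrime := hb' ▸ DivPart.stalkIdeal_isPrime hxB
  refine Ideal.mem_span_singleton.2 (mul_dvd_mul_left a (Ideal.mem_span_singleton.1
    ((hpb.mem_or_mem f2).resolve_left fun hab => hne ?_)))
  have heq : stalkIdeal A x = stalkIdeal B x := by
    rw [ha', hb']; exact DivPart.span_eq_of_mem ha hpa hpb.ne_top hab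
  have key : ∀ {D E : X.IdealSheafData} [IsIntegral D.subscheme], x ∈ D.support →
      stalkIdeal D x = stalkIdeal E x → DivPart.gpt D ∈ E.support := fun {D E} _ hD he => by
    by_contra h
    have hsp := DivPart.gpt_specializes_iff.2 hD
    have h2 := stalkIdeal_map_specializes E hsp
    rw [← he, stalkIdeal_map_specializes D hsp, (stalkIdeal_eq_top_iff E _).2 h] at h2
    exact (stalkIdeal_eq_top_iff D _).1 h2 DivPart.gpt_mem_support
  exact DivPart.eq_of_gpt_eq (Specializes.antisymm (DivPart.gpt_specializes_iff.2 (key hxB heq.symm))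
    (DivPart.gpt_specializes_iff.2 (key hxA heq))).eq

end GrothLib.HypSq28
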