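import Groth.Agent.Lib.CurveMult.HyperPowers
import Groth.Agent.Lib.CurveMult.CliffApp
import Groth.Agent.Lib.CurveMult.DivIso
import Groth.Agent.Lib.CurveMult.DegHom
import Groth.Agent.Lib.RelProjK.Local
import Groth.Agent.Lib.HodgeIndex.H2Vanish
import Groth.Agent.Lib.HodgeIndex.Curves
import Groth.Prelude.Def_Curve

/-!
# Classes of line bundles on a smooth curve
-/

set_option autoImplicit false
set_option backward.isDefEq.respectTransparency false
set_option linter.all false

universe u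

open CategoryTheory CategoryTheory.Limits AlgebraicGeometry TopologicalSpace
open _root_.FunFld (Divisor ell)

noncomputable section

namespace GrothLib.HypSq28

open GrothLib.Cube (Pic clsMod pull)
open GrothLib.HodgeIndex (rep isInv_rep cls_rep chi euler_eq_chi chi_one)

variable (k : Type u) [Field k] {C : Scheme.{u}} [C.Over (Spec (CommRingCat.of k))]

/-- The degree of a class. -/
def dg (a : Pic C) : ℤ := chi k a - chi k (1 : Pic C)

/-- The dimension of the cohomology of a class. -/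
def hc (i : ℕ) (a : Pic C) : ℕ := Module.finrank k (Coh.HH C (rep a) i)

theorem deg_eq_dg {L : C.Modules} (hL : PicF.IsInvertible L) : Curv2.deg k C L 1 = dg k (clsMod hL) := by
  rw [dg, ← euler_eq_chi k hL, chi_one, Curv2.deg, Nat.cast_one, one_mul]

theorem finrank_eq_hc {L : C.Modules} (hL : PicF.IsInvertible L) (i : ℕ) :
    Module.finrank k (Coh.HH C L i) = hc k i (clsMod hL) := by
  obtain ⟨e⟩ := (Cube.clsMod_eq_iff hL (isInv_rep _)).1 (cls_rep (clsMod hL)).symm
  exact (Euler.hhEquiv (A := k) e i).finrank_eq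

theorem dg_one : dg k (1 : Pic C) = 0 := sub_self _

variable [IsProper (C ↘ Spec (CommRingCat.of k))] [IsIntegral C] (hd : topologicalKrullDim C = 1)

include hd in
theorem dg_mul (a b : Pic C) : dg k (a * b) = dg k a + dg k b := by
  haveI := Euler.isNoetherian_of_proper (X := C) k
  rw [← cls_rep a, ← cls_rep b, ← Cube.clsMod_tensorMod (isInv_rep a) (isInv_rep b), ← deg_eq_dg, ← deg_eq_dg,
    ← deg_eq_dg]
  exact CurveMult.deg_tensorMod k hd.le (isInv_rep a) (isInv_rep b)

include hd in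
theorem dg_inv (a : Pic C) : dg k a⁻¹ = - dg k a := by
  have h := dg_mul k hd a a⁻¹
  rw [mul_inv_cancel, dg_one] at h
  omega

include hd in
theorem dg_pow (a : Pic C) (n : ℕ) : dg k (a ^ n) = n * dg k a := by
  induction n with
  | zero => simp [dg_one]
  | succ n ih => rw [pow_succ, dg_mul k hd, ih]; push_cast; ring

theorem chi_eq (a : Pic C) : chi k a = chi k (1 : Pic C) + dg k a := by rw [dg]; ring

section Div

variable [CurveRR.RegCurve C]

/-- The class of a divisor. -/
def od (D : Divisor k C.functionField) : Pic C := clsMod (CurveRR.isInvertible_oD k D)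

theorem exists_od (a : Pic C) : ∃ D, od k D = a := by
  obtain ⟨D, ⟨e⟩⟩ := CurveRR.exists_iso_oD k (isInv_rep a)
  exact ⟨D, by rw [od, ← cls_rep a]; exact (Cube.clsMod_eq_iff _ _).2 ⟨e.symm⟩⟩

theorem od_add (D E : Divisor k C.functionField) : od k (D + E) = od k D * od k E := by
  obtain ⟨t⟩ := CurveRR.nonempty_tensor_iso k (Iso.refl (CurveRR.oD k D)) (Iso.refl (CurveRR.oD k E))
  rw [od, od, od, ← Cube.clsMod_tensorMod (CurveRR.isInvertible_oD k D) (CurveRR.isInvertible_oD k E)]
  exact (Cube.clsMod_eq_iff _ _).2 ⟨t.symm⟩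

theorem od_zero : od k (0 : Divisor k C.functionField) = 1 :=
  (Cube.clsMod_eq_one_iff _).2 ⟨(CurveRR.nonempty_iso_oD_zero k).some.symm⟩

theorem od_neg (D : Divisor k C.functionField) : od k (-D) = (od k D)⁻¹ :=
  eq_inv_of_mul_eq_one_right (by rw [← od_add, add_neg_cancel, od_zero])

theorem od_sub (D E : Divisor k C.functionField) : od k (D - E) = od k D * (od k E)⁻¹ := by
  rw [sub_eq_add_neg, od_add, od_neg]

theorem od_nsmul (n : ℕ) (D : Divisor k C.functionField) : od k (n • D) = od k D ^ n := by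
  induction n with
  | zero => rw [zero_smul, od_zero, pow_zero]
  | succ n ih => rw [succ_nsmul, od_add, ih, pow_succ]

theorem od_eq_of_sub_mem {D E : Divisor k C.functionField}
    (h : D - E ∈ _root_.FunFld.prinDivs k C.functionField) : od k D = od k E :=
  (Cube.clsMod_eq_iff _ _).2 (CurveMult.DivIso.nonempty_iso_of_sub_mem k h)

theorem dg_od (D : Divisor k C.functionField) : dg k (od k D) = D.deg := by
  rw [od, ← deg_eq_dg, CurveRR.deg_oD]

theorem hc_zero_od (D : Divisor k C.functionField) : hc k 0 (od k D) = ell D := by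
  rw [od, ← finrank_eq_hc, CurveRR.finrank_H0_oD]

variable [IsAlgClosed k]

theorem isFunctionField : _root_.FunFld.IsFunctionField k C.functionField :=
  CurveRR.isFunctionField k (CurveRR.finrank_H0_structure_eq_one k (X := C))

theorem hc_one_od {K : Divisor k C.functionField} (hK : _root_.FunFld.IsCanonical k C.functionField K)
    (D : Divisor k C.functionField) : hc k 1 (od k D) = ell (K - D) := by
  rw [od, ← finrank_eq_hc, CurveRR.finrank_H1_oD k (isFunctionField k) hK]

end Div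

section Smooth

variable [IsAlgClosed k] [Smooth (C ↘ Spec (CommRingCat.of k))] (g : ℕ) (hgen : Curv2.genus k C = g)

include hd hgen in
/-- The canonical class. -/
theorem exists_canonical : ∃ hW : PicF.IsInvertible (Omega.sheaf (C ↘ Spec (CommRingCat.of k))),
    dg k (clsMod hW) = 2 * (g : ℤ) - 2 ∧ hc k 0 (clsMod hW) = g ∧ chi k (1 : Pic C) = 1 - (g : ℤ) ∧
      (∀ a : Pic C, hc k 1 a = hc k 0 (clsMod hW * a⁻¹)) ∧
      (∀ a : Pic C, (hc k 0 a : ℤ) - hc k 1 a = chi k a) ∧
      (∀ a : Pic C, dg k a < 0 → hc k 0 a = 0) ∧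
      (∀ a : Pic C, dg k a = 0 → hc k 0 a ≠ 0 → a = 1) ∧
      (∀ a : Pic C, dg k a = 2 * (g : ℤ) - 2 → g ≤ hc k 0 a → a = clsMod hW) := by
  obtain ⟨hR, -, hK, hgK, K, hKc, ⟨eK⟩⟩ := CurveMult.OmegaApp.setup k hd
    (HodgeIndex.regular_of_smooth k)
  rw [hgen] at hgK
  haveI := hR
  have hW : PicF.IsInvertible (Omega.sheaf (C ↘ Spec (CommRingCat.of k))) :=
    RelProjK.isInvertible_of_iso eK (CurveRR.isInvertible_oD k K)
  have hw : clsMod hW = od k K := (Cube.clsMod_eq_iff _ _).2 ⟨eK⟩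
  obtain ⟨hlK, hdK⟩ := FunFld.ell_canonical hK hKc
  refine ⟨hW, ?_, ?_, ?_, fun a => ?_, fun a => ?_, fun a ha => ?_, fun a ha hne => ?_, fun a ha hl => ?_⟩
  · rw [hw, dg_od, hdK, hgK]
  · rw [hw, hc_zero_od, hlK, hgK]
  · rw [chi_one, CurveRR.euler_structure_eq k hK, hgK]
  · obtain ⟨D, rfl⟩ := exists_od k a
    rw [hw, ← od_sub, hc_one_od k hKc, hc_zero_od]
  · obtain ⟨D, rfl⟩ := exists_od k a
    rw [chi_eq, chi_one, CurveRR.euler_structure_eq k hK, dg_od, hc_zero_od, hc_one_od k hKc,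
      FunFld.riemann_roch' hK hKc D]
    ring
  · obtain ⟨D, rfl⟩ := exists_od k a
    rw [dg_od] at ha
    rw [hc_zero_od]
    by_contra hne
    obtain ⟨x, hx0, -, hx⟩ := (show GrothLib.FunFld.IsFG k C.functionField from hK.1).exists_of_ell_pos
      (Nat.pos_of_ne_zero hne)
    have := FunFld.deg_nonneg hx
    rw [FunFld.deg_add, (show GrothLib.FunFld.IsFG k C.functionField from hK.1).deg_div] at this
    omega
  · obtain ⟨D, rfl⟩ := exists_od k a
    rw [dg_od] at ha
    rw [hc_zero_od] at hne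
    have hfg : GrothLib.FunFld.IsFG k C.functionField := hK.1
    obtain ⟨x, hx0, -, hx⟩ := hfg.exists_of_ell_pos (Nat.pos_of_ne_zero hne)
    have h := hfg.eq_of_le_of_deg_le (D := (0 : Divisor k C.functionField)) hx (by
      rw [FunFld.deg_add, hfg.deg_div, ha, FunFld.deg_zero]; rfl)
    rw [← od_zero k]
    refine od_eq_of_sub_mem k ?_
    rw [sub_zero, show D = -_root_.FunFld.div k x from eq_neg_of_add_eq_zero_left h.symm]
    exact AddSubgroup.neg_mem _ ((FunFld.mem_prinDivs_iff hfg _).2 ⟨x, hx0, rfl⟩)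
  · obtain ⟨D, rfl⟩ := exists_od k a
    rw [dg_od] at ha
    rw [hc_zero_od] at hl
    rw [hw]
    exact od_eq_of_sub_mem k (FunFld.sub_mem_prinDivs_of_canonical hK hKc (by rw [← hgK]; exact ha) (by rwa [← hgK]))

include hd hgen in
/-- The class of a double cover of the line. -/
theorem exists_pencil (hg : 2 ≤ g) (κ : C ⟶ CohB1.ProjSpace 1 k)
    (hκ : κ ≫ CohB1.ProjSpace.toSpec 1 k = (C ↘ Spec (CommRingCat.of k)))
    [IsFinite κ] [Flat κ] (hκ2 : ∀ y : ↥(CohB1.ProjSpace 1 k), κ.finrank y = 2) :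
    ∃ hL : PicF.IsInvertible ((Scheme.Modules.pullback κ).obj (Twist.twistProjSpace 1 k 1)),
      dg k (clsMod hL) = 2 ∧ (∀ r ≤ g, hc k 0 (clsMod hL ^ r) = r + 1) ∧
      ∀ hW : PicF.IsInvertible (Omega.sheaf (C ↘ Spec (CommRingCat.of k))), clsMod hW = clsMod hL ^ (g - 1) := by
  obtain ⟨hR, -, hK, hgK, -, -, -⟩ := CurveMult.OmegaApp.setup k hd (HodgeIndex.regular_of_smooth k)
  rw [hgen] at hgK
  haveI := hR
  obtain ⟨D, ⟨e⟩, hD, hlD⟩ := CurveMult.HyperPowers.exists_divisor k κ hκ hκ2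
  have hL : PicF.IsInvertible ((Scheme.Modules.pullback κ).obj (Twist.twistProjSpace 1 k 1)) :=
    RelProjK.isInvertible_of_iso e (CurveRR.isInvertible_oD k D)
  have hl : clsMod hL = od k D := (Cube.clsMod_eq_iff _ _).2 ⟨e⟩
  have hpow : ∀ r ≤ g, hc k 0 (clsMod hL ^ r) = r + 1 := fun r hr => by
    rw [hl, ← od_nsmul, hc_zero_od]
    exact CurveMult.HyperPowers.ell_nsmul_of_deg_two hK (by omega) hD hlD (by omega)
  refine ⟨hL, by rw [hl, dg_od, hD], hpow, fun hW => ?_⟩
  obtain ⟨hW', -, -, -, -, -, -, -, hu⟩ := exists_canonical k hd g hgen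
  rw [← hu (clsMod hL ^ (g - 1)) (by rw [dg_pow k hd, hl, dg_od, hD]; push_cast [show 1 ≤ g by omega]; ring)
    (by rw [hpow _ (by omega)]; omega)]

end Smooth

end GrothLib.HypSq28
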