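import Groth.Agent.Lib.HypSq28.Prod
import Groth.Agent.Lib.HomTan26.Main

/-!
# Graphs on the square of a curve
-/

set_option autoImplicit false
set_option backward.isDefEq.respectTransparency false
set_option linter.all false
set_option maxHeartbeats 1000000

universe u

open CategoryTheory CategoryTheory.Limits AlgebraicGeometry TopologicalSpace

noncomputable section

namespace GrothLib.HypSq28

open GrothLib.Cube (Pic clsMod pull)
open GrothLib.HodgeIndex (rep isInv_rep cls_rep chi euler_eq_chi chi_one isect hh)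

attribute [local instance] xOver

variable (k : Type u) [Field k] [IsAlgClosed k] {C : Scheme.{u}} [C.Over (Spec (CommRingCat.of k))]
  [IsProper (C ↘ Spec (CommRingCat.of k))] [Smooth (C ↘ Spec (CommRingCat.of k))] [IsIntegral C]
  (hd : topologicalKrullDim C = 1)

/-- The graph of an endomorphism. -/
abbrev gam (φ : C ⟶ C) (hφ : φ ≫ (C ↘ Spec (CommRingCat.of k)) = C ↘ Spec (CommRingCat.of k)) : C ⟶ XX k C :=
  pullback.lift (𝟙 C) φ ((Category.id_comp (C ↘ Spec (CommRingCat.of k))).trans hφ.symm)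

variable (φ : C ⟶ C) (hφ : φ ≫ (C ↘ Spec (CommRingCat.of k)) = C ↘ Spec (CommRingCat.of k))

include hd in
theorem graph : ∃ (_ : IsClosedImmersion (gam k φ hφ)) (hI : PicF.IsInvertible (ClSub.idealMod (gam k φ hφ).ker)),
    gam k φ hφ ≫ XX k C ↘ Spec (CommRingCat.of k) = C ↘ Spec (CommRingCat.of k) ∧
    (∀ a b : Pic C, pull (gam k φ hφ) (box k a b) = a * pull φ b) ∧
    (∀ hW : PicF.IsInvertible (Omega.sheaf (C ↘ Spec (CommRingCat.of k))),
      pull (gam k φ hφ) (clsMod hI) = pull φ (clsMod hW)) ∧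
    (∀ z : Pic (XX k C), isect k z (clsMod hI) = - dg k (pull (gam k φ hφ) z)) ∧
    IsIntegral (gam k φ hφ).ker.subscheme ∧
      topologicalKrullDim ((gam k φ hφ).ker.support : Set (XX k C)) = 1 := by
  obtain ⟨hpr, hsm, hint, hdim⟩ := surf k hd
  have h1 : gam k φ hφ ≫ p₁ k = 𝟙 C := pullback.lift_fst _ _ _
  have h2 : gam k φ hφ ≫ p₂ k = φ := pullback.lift_snd _ _ _
  have hov : gam k φ hφ ≫ XX k C ↘ Spec (CommRingCat.of k) = C ↘ Spec (CommRingCat.of k) := by
    show gam k φ hφ ≫ p₁ k ≫ C ↘ Spec (CommRingCat.of k) = _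
    rw [← Category.assoc, h1, Category.id_comp]
  haveI : IsSeparated (p₁ k (C := C)) := MorphismProperty.pullback_fst _ _ inferInstance
  haveI : IsClosedImmersion (gam k φ hφ ≫ p₁ k) := by rw [h1]; infer_instance
  haveI hcl : IsClosedImmersion (gam k φ hφ) := IsClosedImmersion.of_comp (gam k φ hφ) (p₁ k)
  haveI : IsIso (gam k φ hφ).toImage := inferInstance
  haveI : Nonempty (gam k φ hφ).ker.subscheme := (IsIntegral.nonempty (X := C)).map (gam k φ hφ).toImage
  have hi : IsIntegral (gam k φ hφ).ker.subscheme := isIntegral_of_isOpenImmersion (inv (gam k φ hφ).toImage)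
  have hid : topologicalKrullDim ((gam k φ hφ).ker.support : Set (XX k C)) = 1 := by
    rw [← hd, ← Scheme.IdealSheafData.range_subschemeι]
    refine ((IsHomeomorph.topologicalKrullDim_eq _
      (gam k φ hφ).ker.subschemeι.isClosedEmbedding.isEmbedding.toHomeomorph.isHomeomorph).symm).trans ?_
    exact (IsHomeomorph.topologicalKrullDim_eq _ (gam k φ hφ).toImage.homeomorph.isHomeomorph).symm
  have hI := HodgeIndex.inv_curve k hdim hi hid
  refine ⟨hcl, hI, hov, fun a b => ?_, fun hW => ?_, fun z => ?_, hi, hid⟩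
  · rw [box, map_mul, Cube.pull_comp, Cube.pull_comp, h1, h2, Cube.pull_id]
  · obtain ⟨e⟩ := HomTan26.nonempty_conormal_gr (k := k) (C ↘ Spec (CommRingCat.of k))
      (C ↘ Spec (CommRingCat.of k)) φ hφ
    rw [← Cube.clsMod_pullback _ hI, ← Cube.clsMod_pullback _ hW, Cube.clsMod_eq_iff]
    exact ⟨e.symm⟩
  · have h := (seq k (gam k φ hφ) hov hI hd.le z).2.2.2.2.2.2
    have h' := (seq k (gam k φ hφ) hov hI hd.le (1 : Pic (XX k C))).2.2.2.2.2.2
    rw [one_mul, map_one] at h'
    rw [isect, dg]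
    linarith

end GrothLib.HypSq28
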