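import Groth.Agent.Lib.HypSq28.Graph

/-!
# The graph of the hyperelliptic involution
-/

set_option autoImplicit false
set_option backward.isDefEq.respectTransparency false
set_option linter.all false
set_option maxHeartbeats 1000000

universe u

open CategoryTheory CategoryTheory.Limits AlgebraicGeometry TopologicalSpace

noncomputable section

namespace GrothLib.HypSq28

open GrothLib.Cube (Pic clsMod pull)
open GrothLib.HodgeIndex (rep isInv_rep cls_rep chi euler_eq_chi chi_one isect hh)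

attribute [local instance] xOver
attribute [local instance] CurveMult.P1Split.overP1

variable (k : Type u) [Field k] {C : Scheme.{u}} [C.Over (Spec (CommRingCat.of k))]

/-- The class of `p₁*A ⊗ p₂*B ⊗ N`. -/
theorem cls_tw {A B : C.Modules} (hA : PicF.IsInvertible A) (hB : PicF.IsInvertible B) {N : (XX k C).Modules}
    (hN : PicF.IsInvertible N) :
    ∃ hT : PicF.IsInvertible (CohB1.tensorMod (CohB1.tensorMod ((Scheme.Modules.pullback (p₁ k)).obj A)
        ((Scheme.Modules.pullback (p₂ k)).obj B)) N),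
      clsMod hT = box k (clsMod hA) (clsMod hB) * clsMod hN := by
  have h12 := Ample.isInvertible_tensorMod (Ample.isInvertible_pullback (p₁ k) hA)
    (Ample.isInvertible_pullback (p₂ k) hB)
  refine ⟨Ample.isInvertible_tensorMod h12 hN, ?_⟩
  rw [Cube.clsMod_tensorMod h12 hN, Cube.clsMod_tensorMod (Ample.isInvertible_pullback (p₁ k) hA)
    (Ample.isInvertible_pullback (p₂ k) hB), Cube.clsMod_pullback (p₁ k) hA, Cube.clsMod_pullback (p₂ k) hB]
  rfl

/-- The class of `p₁*A ⊗ p₂*B`. -/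
theorem cls_tw₂ {A B : C.Modules} (hA : PicF.IsInvertible A) (hB : PicF.IsInvertible B) :
    ∃ hT : PicF.IsInvertible (CohB1.tensorMod ((Scheme.Modules.pullback (p₁ k)).obj A)
        ((Scheme.Modules.pullback (p₂ k)).obj B)),
      clsMod hT = box k (clsMod hA) (clsMod hB) := by
  refine ⟨Ample.isInvertible_tensorMod (Ample.isInvertible_pullback (p₁ k) hA)
    (Ample.isInvertible_pullback (p₂ k) hB), ?_⟩
  rw [Cube.clsMod_tensorMod (Ample.isInvertible_pullback (p₁ k) hA)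
    (Ample.isInvertible_pullback (p₂ k) hB), Cube.clsMod_pullback (p₁ k) hA, Cube.clsMod_pullback (p₂ k) hB]
  rfl

theorem cls_inverse {X : Scheme.{u}} {N I : X.Modules} (hN : PicF.IsInvertible N) (hI : PicF.IsInvertible I)
    (h : ClSub.IsInverseOf N I) : clsMod hN = (clsMod hI)⁻¹ := by
  refine eq_inv_of_mul_eq_one_left ?_
  rw [← Cube.clsMod_tensorMod hN hI, Cube.clsMod_eq_one_iff]
  exact h

variable [IsAlgClosed k] [IsProper (C ↘ Spec (CommRingCat.of k))] [Smooth (C ↘ Spec (CommRingCat.of k))] [IsIntegral C]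
  (hd : topologicalKrullDim C = 1)

include hd in
/-- An endomorphism over a double cover of the line preserves degrees. -/
theorem dg_pull_of_over (κ : C ⟶ CohB1.ProjSpace 1 k)
    (hκ : κ ≫ CohB1.ProjSpace.toSpec 1 k = (C ↘ Spec (CommRingCat.of k))) [IsFinite κ]
    (σ : C ⟶ C) (hσ : σ ≫ κ = κ) (hσp : σ ≫ (C ↘ Spec (CommRingCat.of k)) = (C ↘ Spec (CommRingCat.of k)))
    (hL : PicF.IsInvertible ((Scheme.Modules.pullback κ).obj (Twist.twistProjSpace 1 k 1)))
    (hl : dg k (clsMod hL) ≠ 0) :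
    pull σ (clsMod hL) = clsMod hL ∧ ∀ a : Pic C, dg k (pull σ a) = dg k a := by
  haveI : CurveRR.RegCurve C := CurveRR.regCurve_of_regular (k := k) hd (HodgeIndex.regular_of_smooth k)
  have hfix : pull σ (clsMod hL) = clsMod hL := by
    rw [Cube.clsMod_pullback κ (CurveMult.P1Split.inv_O1 k 1), Cube.pull_comp, hσ]
  obtain ⟨-, -, hgen⟩ := CurveMult.HyperP1.isFinite_flat_dominant k κ hκ
    (CurveMult.range_nontrivial_of_isFinite k κ)
  have hξ : κ (genericPoint C) = genericPoint (CohB1.ProjSpace 1 k) :=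
    ((specializes_iff_forall_open.2 fun s hs hmem => hgen ⟨s, hs⟩ ⟨_, hmem⟩).antisymm
      ((genericPoint_spec _).specializes trivial)).eq
  have hση : σ (genericPoint C) = genericPoint C := by
    by_contra hne
    have hcl : IsClosed ({σ (genericPoint C)} : Set C) := (CurveRR.isClosed_iff_ne_genericPoint k _).2 hne
    have h := κ.isClosedMap _ hcl
    rw [Set.image_singleton, show κ (σ (genericPoint C)) = genericPoint (CohB1.ProjSpace 1 k) by
      rw [← hξ]; exact congr($hσ (genericPoint C))] at h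
    exact CurvePoints.genericPoint_not_isClosed (CurveMult.P1Split.dim_P1 k) h
  have hdeg : ∀ a : Pic C, dg k (pull σ a) = (σ.residueDegree (genericPoint C) : ℤ) * dg k a := fun a => by
    have h := Groth.Agent.S7640.result k C C hd hd σ hσp hση 1 (rep a) (Euler.isFinLocFreeOfRank_one' (isInv_rep a))
    rwa [deg_eq_dg k (Ample.isInvertible_pullback σ (isInv_rep a)), deg_eq_dg k (isInv_rep a), cls_rep,
      Cube.clsMod_pullback σ (isInv_rep a), cls_rep] at h
  refine ⟨hfix, fun a => ?_⟩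
  have h1 := hdeg (clsMod hL)
  rw [hfix] at h1
  rw [hdeg, show (σ.residueDegree (genericPoint C) : ℤ) = 1 from mul_right_cancel₀ hl (h1.symm.trans (one_mul _).symm),
    one_mul]

variable (g : ℕ) (hgen : Curv2.genus k C = g)

include hd hgen in
/-- The basic data of the graph of the involution. -/
theorem setup (hg : 2 ≤ g) (κ : C ⟶ CohB1.ProjSpace 1 k)
    (hκ : κ ≫ CohB1.ProjSpace.toSpec 1 k = (C ↘ Spec (CommRingCat.of k)))
    [IsFinite κ] [Flat κ] (hκ2 : ∀ y : ↥(CohB1.ProjSpace 1 k), κ.finrank y = 2)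
    (σ : C ⟶ C) (hσ : σ ≫ κ = κ) (hσp : σ ≫ (C ↘ Spec (CommRingCat.of k)) = (C ↘ Spec (CommRingCat.of k))) :
    ∃ (hL : PicF.IsInvertible ((Scheme.Modules.pullback κ).obj (Twist.twistProjSpace 1 k 1)))
      (hI : PicF.IsInvertible (ClSub.idealMod (gam k σ hσp).ker)),
      dg k (clsMod hL) = 2 ∧ (∀ r ≤ g, hc k 0 (clsMod hL ^ r) = r + 1) ∧ chi k (1 : Pic C) = 1 - (g : ℤ) ∧
      (∀ a : Pic C, dg k (pull σ a) = dg k a) ∧ pull σ (clsMod hL) = clsMod hL ∧
      (∀ a b : Pic C, pull (gam k σ hσp) (box k a b) = a * pull σ b) ∧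
      pull (gam k σ hσp) (clsMod hI) = clsMod hL ^ (g - 1) ∧
      (∀ z : Pic (XX k C), isect k z (clsMod hI) = - dg k (pull (gam k σ hσp) z)) := by
  obtain ⟨hL, hl, hpow, hω⟩ := exists_pencil k hd g hgen hg κ hκ hκ2
  obtain ⟨hfix, hdeg⟩ := dg_pull_of_over k hd κ hκ σ hσ hσp hL (by rw [hl]; norm_num)
  obtain ⟨hW, -, -, hchi, -, -, -, -, -⟩ := exists_canonical k hd g hgen
  obtain ⟨hcl, hI, -, hbox, hnor, hint, -, -⟩ := graph k hd σ hσp
  refine ⟨hL, hI, hl, hpow, hchi, hdeg, hfix, hbox, ?_, hint⟩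
  rw [hnor hW, hω hW, map_pow, hfix]

include hd hgen in
/-- Euler characteristics after adding multiples of the graph. -/
theorem chi_graph (σ : C ⟶ C) (hσp : σ ≫ (C ↘ Spec (CommRingCat.of k)) = (C ↘ Spec (CommRingCat.of k)))
    (hI : PicF.IsInvertible (ClSub.idealMod (gam k σ hσp).ker))
    (hσd : ∀ a : Pic C, dg k (pull σ a) = dg k a) (a b : Pic C) (r : ℕ) :
    dg k (pull (gam k σ hσp) (box k a b * (clsMod hI)⁻¹ ^ r)) = dg k a + dg k b - r * (2 * (g : ℤ) - 2) ∧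
    chi k (box k a b * (clsMod hI)⁻¹ ^ r) =
      (1 - (g : ℤ) + dg k a) * (1 - (g : ℤ) + dg k b) + r * (dg k a + dg k b) - ((g : ℤ) - 1) * r * (r + 2) := by
  obtain ⟨hW, hdw, -, hchi, -, -, -, -, -⟩ := exists_canonical k hd g hgen
  obtain ⟨hcl, hI', hov, hbox, hnor, -, -, -⟩ := graph k hd σ hσp
  obtain ⟨hpr, -, -, -⟩ := surf k hd
  have hdeg : ∀ r : ℕ, dg k (pull (gam k σ hσp) (box k a b * (clsMod hI)⁻¹ ^ r)) =
      dg k a + dg k b - r * (2 * (g : ℤ) - 2) := fun r => by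
    rw [map_mul, hbox, map_pow, map_inv, hnor hW, dg_mul k hd, dg_mul k hd, hσd, dg_pow k hd, dg_inv k hd, hσd, hdw]
    ring
  refine ⟨hdeg r, ?_⟩
  induction r with
  | zero => rw [pow_zero, mul_one, chi_box, chi_eq k a, chi_eq k b, hchi]; push_cast; ring
  | succ r ih =>
    have e : box k a b * (clsMod hI)⁻¹ ^ (r + 1) * clsMod hI = box k a b * (clsMod hI)⁻¹ ^ r := by
      rw [pow_succ, ← mul_assoc, inv_mul_cancel_right]
    rw [(seq k (gam k σ hσp) hov hI hd.le (box k a b * (clsMod hI)⁻¹ ^ (r + 1))).2.2.2.2.2.2, e, ih,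
      chi_eq k (pull _ _), hdeg, hchi]
    push_cast
    ring

include hd hgen in
/-- Vanishing after adding multiples of the graph. -/
theorem vanish_graph (σ : C ⟶ C) (hσp : σ ≫ (C ↘ Spec (CommRingCat.of k)) = (C ↘ Spec (CommRingCat.of k)))
    (hI : PicF.IsInvertible (ClSub.idealMod (gam k σ hσp).ker))
    (hσd : ∀ a : Pic C, dg k (pull σ a) = dg k a) (a b : Pic C)
    (ha : 2 * (g : ℤ) - 2 < dg k a) (hb : 2 * (g : ℤ) - 2 < dg k b) : ∀ r : ℕ,
    hX k 2 (box k a b * (clsMod hI)⁻¹ ^ r) = 0 ∧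
      ((2 * (g : ℤ) - 2) * (r + 1) < dg k a + dg k b → 2 ≤ g → hX k 1 (box k a b * (clsMod hI)⁻¹ ^ r) = 0) := by
  obtain ⟨hcl, hI', hov, -, -, -, -, -⟩ := graph k hd σ hσp
  obtain ⟨hpr, -, -, -⟩ := surf k hd
  obtain ⟨hb1, hb2, -⟩ := box_coh k hd g hgen ha hb
  intro r
  induction r with
  | zero => rw [pow_zero, mul_one]; exact ⟨hb2, fun _ _ => hb1⟩
  | succ r ih =>
    have e : box k a b * (clsMod hI)⁻¹ ^ (r + 1) * clsMod hI = box k a b * (clsMod hI)⁻¹ ^ r := by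
      rw [pow_succ, ← mul_assoc, inv_mul_cancel_right]
    obtain ⟨hle, -, -, -, h2, -, -⟩ := seq k (gam k σ hσp) hov hI hd.le (box k a b * (clsMod hI)⁻¹ ^ (r + 1))
    rw [e] at hle h2
    refine ⟨Nat.eq_zero_of_le_zero (h2.trans_eq ih.1), fun hr hg => ?_⟩
    push_cast at hr
    have h := hle (n := 1) rfl rfl rfl
    rw [show Module.finrank k (Coh.HH C (rep (pull (gam k σ hσp) (box k a b * (clsMod hI)⁻¹ ^ (r + 1)))) 1) = 0 from
      hc1_eq_zero k hd g hgen (by
        rw [(chi_graph k hd g hgen σ hσp hI hσd a b (r + 1)).1]; push_cast; linarith)] at h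
    have hr' : (2 * (g : ℤ) - 2) * ((r : ℤ) + 1) < dg k a + dg k b := by
      have : (2 : ℤ) ≤ g := by exact_mod_cast hg
      nlinarith
    exact Nat.eq_zero_of_le_zero (h.trans_eq (by rw [show Module.finrank k (Coh.HH (XX k C)
      (rep (box k a b * (clsMod hI)⁻¹ ^ r)) 1) = 0 from ih.2 hr' hg]))

include hd hgen in
/-- The cohomology of the classes of the statements. -/
theorem main (hg : 2 ≤ g) (κ : C ⟶ CohB1.ProjSpace 1 k)
    (hκ : κ ≫ CohB1.ProjSpace.toSpec 1 k = (C ↘ Spec (CommRingCat.of k)))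
    [IsFinite κ] [Flat κ] (hκ2 : ∀ y : ↥(CohB1.ProjSpace 1 k), κ.finrank y = 2)
    (σ : C ⟶ C) (hσ : σ ≫ κ = κ) (hσp : σ ≫ (C ↘ Spec (CommRingCat.of k)) = (C ↘ Spec (CommRingCat.of k)))
    (N : (XX k C).Modules) (hN : PicF.IsInvertible N)
    (hNinv : ClSub.IsInverseOf N (ClSub.idealMod (gam k σ hσp).ker)) (m r : ℕ) (i : ℕ) :
    ∃ (hL : PicF.IsInvertible ((Scheme.Modules.pullback κ).obj (Twist.twistProjSpace 1 k 1)))
      (z : Pic (XX k C)),
      Module.finrank k (Coh.HH (XX k C) (CohB1.tensorMod (CohB1.tensorMod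
        ((Scheme.Modules.pullback (p₁ k)).obj (CohB1.tensorPow ((Scheme.Modules.pullback κ).obj (Twist.twistProjSpace 1 k 1)) m))
        ((Scheme.Modules.pullback (p₂ k)).obj (CohB1.tensorPow ((Scheme.Modules.pullback κ).obj (Twist.twistProjSpace 1 k 1)) m)))
        (CohB1.tensorPow N r)) i) = hX k i z ∧
      chi k z = (2 * (m : ℤ) - ((g : ℤ) - 1)) ^ 2 + 4 * (m : ℤ) * r - ((g : ℤ) - 1) * r * (r + 2) ∧
      Curv2.euler k (XX k C) (CohB1.tensorMod (CohB1.tensorMod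
        ((Scheme.Modules.pullback (p₁ k)).obj (CohB1.tensorPow ((Scheme.Modules.pullback κ).obj (Twist.twistProjSpace 1 k 1)) m))
        ((Scheme.Modules.pullback (p₂ k)).obj (CohB1.tensorPow ((Scheme.Modules.pullback κ).obj (Twist.twistProjSpace 1 k 1)) m)))
        (CohB1.tensorPow N r)) = chi k z ∧
      (g ≤ m → hX k 2 z = 0) ∧
      (g ≤ m → ((g : ℤ) - 1) * (r + 1) < 2 * m → hX k 1 z = 0) ∧
      (hX k 0 z : ℤ) - hX k 1 z + hX k 2 z = chi k z ∧
      (∀ s : ℕ, (s : ℤ) = 2 * (m : ℤ) - ((g : ℤ) - 1) * r → Nonempty ((Scheme.Modules.pullback (gam k σ hσp)).obj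
        (CohB1.tensorMod (CohB1.tensorMod
        ((Scheme.Modules.pullback (p₁ k)).obj (CohB1.tensorPow ((Scheme.Modules.pullback κ).obj (Twist.twistProjSpace 1 k 1)) m))
        ((Scheme.Modules.pullback (p₂ k)).obj (CohB1.tensorPow ((Scheme.Modules.pullback κ).obj (Twist.twistProjSpace 1 k 1)) m)))
        (CohB1.tensorPow N r)) ≅ CohB1.tensorPow ((Scheme.Modules.pullback κ).obj (Twist.twistProjSpace 1 k 1)) s)) ∧
      (g ≤ m → ∀ q : ℕ, r = q + 1 → ∃ z' : Pic (XX k C),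
        Module.finrank k (Coh.HH (XX k C) (CohB1.tensorMod (CohB1.tensorMod
        ((Scheme.Modules.pullback (p₁ k)).obj (CohB1.tensorPow ((Scheme.Modules.pullback κ).obj (Twist.twistProjSpace 1 k 1)) m))
        ((Scheme.Modules.pullback (p₂ k)).obj (CohB1.tensorPow ((Scheme.Modules.pullback κ).obj (Twist.twistProjSpace 1 k 1)) m)))
        (CohB1.tensorPow N q)) i) = hX k i z' ∧
        chi k z' = (2 * (m : ℤ) - ((g : ℤ) - 1)) ^ 2 + 4 * (m : ℤ) * q - ((g : ℤ) - 1) * q * (q + 2) ∧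
        (hX k 0 z' : ℤ) - hX k 1 z' + hX k 2 z' = chi k z' ∧ hX k 2 z' = 0 ∧
        (((g : ℤ) - 1) * r < 2 * m → hX k 1 z' = 0) ∧
        (2 * (m : ℤ) < ((g : ℤ) - 1) * r → hX k 0 z = hX k 0 z') ∧
        (∀ s : ℕ, (s : ℤ) = 2 * (m : ℤ) - ((g : ℤ) - 1) * r → 0 < s →
          hX k 0 z = hX k 0 z' + hc k 0 (clsMod hL ^ s) ∧ hX k 1 z = hc k 1 (clsMod hL ^ s))) := by
  obtain ⟨hL, hI, hl, hpow, hchi1, hσd, hfix, hbox, hnor, -⟩ := setup k hd g hgen hg κ hκ hκ2 σ hσ hσp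
  obtain ⟨hcl, hI', hov, -, -, -, -, -⟩ := graph k hd σ hσp
  obtain ⟨hpr, hsm, hint, hdim⟩ := surf k hd
  obtain ⟨hW, hdw, -, -, -, -, hneg, -, -⟩ := exists_canonical k hd g hgen
  have hLm := Ample.isInvertible_tensorPow hL m
  have hNc := cls_inverse hN hI hNinv
  have cl : ∀ q : ℕ, ∃ hT : PicF.IsInvertible (CohB1.tensorMod (CohB1.tensorMod
      ((Scheme.Modules.pullback (p₁ k)).obj (CohB1.tensorPow ((Scheme.Modules.pullback κ).obj (Twist.twistProjSpace 1 k 1)) m))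
      ((Scheme.Modules.pullback (p₂ k)).obj (CohB1.tensorPow ((Scheme.Modules.pullback κ).obj (Twist.twistProjSpace 1 k 1)) m)))
      (CohB1.tensorPow N q)),
      clsMod hT = box k (clsMod hL ^ m) (clsMod hL ^ m) * (clsMod hI)⁻¹ ^ q := fun q => by
    obtain ⟨hT, hc⟩ := cls_tw k hLm hLm (Ample.isInvertible_tensorPow hN q)
    refine ⟨hT, ?_⟩
    rw [hc, Cube.clsMod_tensorPow hL m, Cube.clsMod_tensorPow hN q, hNc]
  have hda : dg k (clsMod hL ^ m) = 2 * (m : ℤ) := by rw [dg_pow k hd, hl]; ring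
  have hch : ∀ q : ℕ, chi k (box k (clsMod hL ^ m) (clsMod hL ^ m) * (clsMod hI)⁻¹ ^ q) =
      (2 * (m : ℤ) - ((g : ℤ) - 1)) ^ 2 + 4 * (m : ℤ) * q - ((g : ℤ) - 1) * q * (q + 2) := fun q => by
    rw [(chi_graph k hd g hgen σ hσp hI hσd _ _ q).2, hda]; ring
  have hv : g ≤ m → ∀ q : ℕ, hX k 2 (box k (clsMod hL ^ m) (clsMod hL ^ m) * (clsMod hI)⁻¹ ^ q) = 0 ∧
      (((g : ℤ) - 1) * (q + 1) < 2 * m → hX k 1 (box k (clsMod hL ^ m) (clsMod hL ^ m) * (clsMod hI)⁻¹ ^ q) = 0) := by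
    intro hm q
    have hm' : (g : ℤ) ≤ m := by exact_mod_cast hm
    obtain ⟨h2, h1⟩ := vanish_graph k hd g hgen σ hσp hI hσd (clsMod hL ^ m) (clsMod hL ^ m)
      (by rw [hda]; omega) (by rw [hda]; omega) q
    exact ⟨h2, fun h => h1 (by rw [hda]; linarith) hg⟩
  have hpullz : ∀ q s : ℕ, (s : ℤ) = 2 * (m : ℤ) - ((g : ℤ) - 1) * q →
      pull (gam k σ hσp) (box k (clsMod hL ^ m) (clsMod hL ^ m) * (clsMod hI)⁻¹ ^ q) = clsMod hL ^ s := by
    intro q s hs
    have e : s + (g - 1) * q = m + m := by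
      zify [show 1 ≤ g by omega]
      linarith
    rw [map_mul, hbox, map_pow (pull σ), hfix, map_pow (pull (gam k σ hσp)), map_inv, hnor, inv_pow, ← pow_mul,
      ← pow_add, ← e, pow_add, mul_inv_cancel_right]
  obtain ⟨hT, hTc⟩ := cl r
  refine ⟨hL, box k (clsMod hL ^ m) (clsMod hL ^ m) * (clsMod hI)⁻¹ ^ r, ?_, hch r, ?_, fun hm => (hv hm r).1,
    fun hm => (hv hm r).2, (chi_eq_hX k hd _).symm, fun s hs => ?_, fun hm q hq => ?_⟩
  · rw [finrank_eq_hX k hT, hTc]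
  · rw [euler_eq_chi k hT, hTc]
  · refine (Cube.clsMod_eq_iff (Ample.isInvertible_pullback _ hT) (Ample.isInvertible_tensorPow hL s)).1 ?_
    rw [Cube.clsMod_pullback _ hT, hTc, hpullz r s hs, Cube.clsMod_tensorPow hL s]
  · subst hq
    obtain ⟨hT', hTc'⟩ := cl q
    refine ⟨box k (clsMod hL ^ m) (clsMod hL ^ m) * (clsMod hI)⁻¹ ^ q, by rw [finrank_eq_hX k hT', hTc'], hch q,
      (chi_eq_hX k hd _).symm, (hv hm q).1, fun h => (hv hm q).2 (by push_cast at h; exact h), fun h => ?_,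
      fun s hs hs0 => ?_⟩
    all_goals
      have e : box k (clsMod hL ^ m) (clsMod hL ^ m) * (clsMod hI)⁻¹ ^ (q + 1) * clsMod hI =
          box k (clsMod hL ^ m) (clsMod hL ^ m) * (clsMod hI)⁻¹ ^ q := by
        rw [pow_succ, ← mul_assoc, inv_mul_cancel_right]
      obtain ⟨hle, hge, he0, he1, -, -, -⟩ := seq k (gam k σ hσp) hov hI hd.le
        (box k (clsMod hL ^ m) (clsMod hL ^ m) * (clsMod hI)⁻¹ ^ (q + 1))
      rw [e] at hle hge he0 he1
    · have h0 : hc k 0 (pull (gam k σ hσp) (box k (clsMod hL ^ m) (clsMod hL ^ m) * (clsMod hI)⁻¹ ^ (q + 1))) = 0 :=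
        hneg _ (by rw [(chi_graph k hd g hgen σ hσp hI hσd _ _ (q + 1)).1, hda]; linarith)
      have h1 := hle (n := 0) rfl rfl rfl
      exact le_antisymm (h1.trans_eq (by rw [show Module.finrank k (Coh.HH C (rep (pull (gam k σ hσp)
        (box k (clsMod hL ^ m) (clsMod hL ^ m) * (clsMod hI)⁻¹ ^ (q + 1)))) 0) = 0 from h0, Nat.add_zero]; rfl)) hge
    · have hlt : ((g : ℤ) - 1) * ((q : ℤ) + 1) < 2 * m := by push_cast at hs; omega
      have hz1 := (hv hm q).2 hlt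
      rw [hpullz (q + 1) s hs] at he0 he1
      exact ⟨he0 hz1, he1 hz1 (hv hm q).1⟩

end GrothLib.HypSq28

namespace GrothLib.HypSq28

open GrothLib.Cube (Pic clsMod pull)
open GrothLib.HodgeIndex (rep isInv_rep cls_rep chi isect)

attribute [local instance] xOver

variable (k : Type u) [Field k] [IsAlgClosed k] {C : Scheme.{u}} [C.Over (Spec (CommRingCat.of k))]
  [IsProper (C ↘ Spec (CommRingCat.of k))] [Smooth (C ↘ Spec (CommRingCat.of k))] [IsIntegral C]
  (hd : topologicalKrullDim C = 1)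

include hd in
theorem subsingleton_of_finrank {L : (XX k C).Modules} (hL : PicF.IsInvertible L) (i : ℕ)
    (h : Module.finrank k (Coh.HH (XX k C) L i) = 0) : Subsingleton (Coh.HH (XX k C) L i) := by
  obtain ⟨hpr, -, -, -⟩ := surf k hd
  haveI := Euler.isNoetherian_of_proper (X := XX k C) k
  haveI := Euler.finiteDimensional_HH k (Euler.isCoh_of_isInvertible hL) i
  exact Module.finrank_zero_iff.1 h

include hd in
theorem intNum_eq {L M : (XX k C).Modules} (hL : PicF.IsInvertible L) (hM : PicF.IsInvertible M) :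
    FGA.intNum k (XX k C) 2 ![L, M] (Coh.structureModule (XX k C)) = isect k (clsMod hL) (clsMod hM) := by
  obtain ⟨hpr, hsm, hint, hdim⟩ := surf k hd
  obtain ⟨y, hy, hI, hp⟩ := exists_point k hd
  obtain ⟨H, hH, -⟩ := exists_ample_box k hd (clsMod hI)⁻¹ (by rw [dg_inv k hd, hp]; norm_num)
  exact HodgeIndex.intNum_eq_isect k hdim.le hH hL hM

end GrothLib.HypSq28
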