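import Groth.Agent.Lib.HypSq28.Curve
import Groth.Agent.Lib.CurveRR.Special
import Groth.Agent.Lib.CurveRR.FiniteField
import Groth.Agent.Lib.GrpSchField.Pts
import Groth.Agent.Lib.CurveProd28.Basic

/-!
# Rational points imposing a condition
-/

set_option autoImplicit false
set_option backward.isDefEq.respectTransparency false
set_option linter.all false

universe u

open CategoryTheory CategoryTheory.Limits AlgebraicGeometry TopologicalSpace
open _root_.FunFld (Divisor ell L Place)

noncomputable section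

namespace GrothLib.HypSq28

open GrothLib.Cube (Pic clsMod pull)
open GrothLib.HodgeIndex (rep isInv_rep cls_rep chi euler_eq_chi chi_one)

variable (k : Type u) [Field k] [IsAlgClosed k] {C : Scheme.{u}} [C.Over (Spec (CommRingCat.of k))]
  [IsProper (C ↘ Spec (CommRingCat.of k))] [Smooth (C ↘ Spec (CommRingCat.of k))] [IsIntegral C]
  (hd : topologicalKrullDim C = 1)

include hd in
/-- A class with sections loses one at some rational point. -/
theorem exists_point_drop (a : Pic C) (ha : hc k 0 a ≠ 0) :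
    ∃ (y : Spec (CommRingCat.of k) ⟶ C) (_ : y ≫ (C ↘ Spec (CommRingCat.of k)) = 𝟙 _)
      (hI : PicF.IsInvertible (ClSub.idealMod y.ker)), hc k 0 (a * clsMod hI) < hc k 0 a := by
  classical
  obtain ⟨hR, -, hK, -, -, -, -⟩ := CurveMult.OmegaApp.setup k hd (HodgeIndex.regular_of_smooth k)
  haveI := hR
  have hfg : GrothLib.FunFld.IsFG k C.functionField := hK.1
  obtain ⟨D, rfl⟩ := exists_od k a
  rw [hc_zero_od] at ha
  obtain ⟨x, hx0, hxL, hx⟩ := hfg.exists_of_ell_pos (Nat.pos_of_ne_zero ha)
  obtain ⟨P, hP⟩ := CurveRR.FF.exists_place_notMem hfg (D.support ∪ (_root_.FunFld.div k x).support)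
  rw [Finset.mem_union, Finsupp.mem_support_iff, Finsupp.mem_support_iff, not_or, not_not, not_not,
    hfg.div_apply] at hP
  obtain ⟨c, rfl⟩ := CurveRR.place_surjective (k := k) (X := C) P
  have hxc : IsClosed ({c.1} : Set C) := (CurveRR.isClosed_iff_ne_genericPoint k c.1).2 c.2
  have hlt : ell (D - Finsupp.single (CurveRR.place k c) 1) < ell D := by
    haveI := hfg.finite_L D
    refine Submodule.finrank_lt_finrank_of_lt (lt_of_le_of_ne (fun z hz => ?_) fun he => ?_)
    · by_cases hz0 : z = 0
      · rw [hz0]; exact zero_mem _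
      rw [FunFld.mem_L_iff_ord hz0] at hz ⊢
      intro Q
      have := hz Q
      rw [Finsupp.sub_apply] at this
      by_cases hQ : CurveRR.place k c = Q
      · subst hQ; rw [Finsupp.single_eq_same] at this; omega
      · rw [Finsupp.single_eq_of_ne' hQ] at this; omega
    · have h1 : x ∈ L (D - Finsupp.single (CurveRR.place k c) 1) := by rw [he]; exact hxL
      have h2 := (FunFld.mem_L_iff_ord hx0).1 h1 (CurveRR.place k c)
      rw [Finsupp.sub_apply, Finsupp.single_eq_same, hP.1, hP.2] at h2
      omega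
  haveI : LocallyOfFiniteType (Over.mk (C ↘ Spec (CommRingCat.of k))).hom :=
    inferInstanceAs (LocallyOfFiniteType (C ↘ Spec (CommRingCat.of k)))
  obtain ⟨y, hsπ, hs'⟩ : ∃ y : Spec (CommRingCat.of k) ⟶ C,
      y ≫ (C ↘ Spec (CommRingCat.of k)) = 𝟙 _ ∧ y (IsLocalRing.closedPoint k) = c.1 := by
    obtain ⟨s, hs⟩ := GrpSchField.exists_point_of_isClosed (k := k) k
      (X := Over.mk (C ↘ Spec (CommRingCat.of k))) hxc
    refine ⟨s.left, (Over.w s).trans ?_, hs⟩
    show Spec.map (CommRingCat.ofHom (algebraMap k k)) = _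
    simp
  have hI := CurveProd28.isInvertible_pt k hd y hsπ
  refine ⟨y, hsπ, hI, ?_⟩
  obtain ⟨e⟩ := CurveRR.nonempty_idealMod_point_iso k c hxc
  have hker : y.ker = Scheme.IdealSheafData.vanishingIdeal ⟨{c.1}, hxc⟩ := by
    rw [CurveProd28.ker_pt k y hsπ, CurveMult.ker_fromSpecResidueField (CurveProd28.isClosed_pt k y hsπ)]
    simp only [hs']
  have hcls : clsMod hI = od k (-(Finsupp.single (CurveRR.place k c) 1)) := by
    refine (Cube.clsMod_eq_iff _ _).2 ?_
    rw [hker]
    exact ⟨e⟩
  rw [hcls, ← od_add, hc_zero_od, hc_zero_od, ← sub_eq_add_neg]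
  exact hlt

end GrothLib.HypSq28
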