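import Groth.Agent.Lib.HypSq28.Points
import Groth.Agent.Lib.HypSq28.Seq
import Groth.Agent.Lib.Poincare.MumfordEuler
import Groth.Agent.Lib.RLpsi8.AmpleExt
import Groth.Agent.Lib.SerreVanish.Ample
import Groth.Agent.Lib.SurfRR28.Effective

/-!
# Cohomology of external products of classes on the square of a curve
-/

set_option autoImplicit false
set_option backward.isDefEq.respectTransparency false
set_option linter.all false
set_option maxHeartbeats 1000000

universe u

open CategoryTheory CategoryTheory.Limits AlgebraicGeometry TopologicalSpace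

noncomputable section

namespace GrothLib.HypSq28

open GrothLib.Cube (Pic clsMod pull)
open GrothLib.HodgeIndex (rep isInv_rep cls_rep chi euler_eq_chi chi_one isect hh)

variable (k : Type u) [Field k]

section Defs

variable (C : Scheme.{u}) [C.Over (Spec (CommRingCat.of k))]

/-- The square of `C`. -/
abbrev XX : Scheme.{u} := pullback (C ↘ Spec (CommRingCat.of k)) (C ↘ Spec (CommRingCat.of k))

/-- The structure of the square over the field. -/
@[reducible] def xOver : (XX k C).Over (Spec (CommRingCat.of k)) :=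
  ⟨pullback.fst (C ↘ Spec (CommRingCat.of k)) (C ↘ Spec (CommRingCat.of k)) ≫ C ↘ Spec (CommRingCat.of k)⟩

attribute [local instance] xOver

variable {C}

/-- The first projection. -/
abbrev p₁ : XX k C ⟶ C := pullback.fst (C ↘ Spec (CommRingCat.of k)) (C ↘ Spec (CommRingCat.of k))

/-- The second projection. -/
abbrev p₂ : XX k C ⟶ C := pullback.snd (C ↘ Spec (CommRingCat.of k)) (C ↘ Spec (CommRingCat.of k))

/-- The external product of two classes. -/
def box (a b : Pic C) : Pic (XX k C) := pull (p₁ k) a * pull (p₂ k) b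

theorem box_mul (a b c d : Pic C) : box k (a * c) (b * d) = box k a b * box k c d := by
  simp only [box, map_mul]
  exact mul_mul_mul_comm _ _ _ _

theorem box_one : box k (1 : Pic C) 1 = 1 := by simp [box]

theorem box_pow (a b : Pic C) (n : ℕ) : box k (a ^ n) (b ^ n) = box k a b ^ n := by
  simp only [box, map_pow, mul_pow]

theorem box_inv (a b : Pic C) : box k a⁻¹ b⁻¹ = (box k a b)⁻¹ :=
  eq_inv_of_mul_eq_one_right (by rw [← box_mul, mul_inv_cancel, mul_inv_cancel, box_one])

end Defs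

attribute [local instance] xOver

variable [IsAlgClosed k] {C : Scheme.{u}} [C.Over (Spec (CommRingCat.of k))]
  [IsProper (C ↘ Spec (CommRingCat.of k))] [Smooth (C ↘ Spec (CommRingCat.of k))] [IsIntegral C]
  (hd : topologicalKrullDim C = 1)

include hd in
theorem surf : IsProper (XX k C ↘ Spec (CommRingCat.of k)) ∧ Smooth (XX k C ↘ Spec (CommRingCat.of k)) ∧
    IsIntegral (XX k C) ∧ topologicalKrullDim (XX k C) = ((2 : ℕ) : WithBot ℕ∞) :=
  CurveProd28.surface k (p₁ k) (p₂ k) (IsPullback.of_hasPullback _ _) rfl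
    ⟨inferInstance, inferInstance, inferInstance, hd⟩ ⟨inferInstance, inferInstance, inferInstance, hd⟩

theorem chi_box (a b : Pic C) : chi k (box k a b) = chi k a * chi k b := by
  let O : Over (Spec (CommRingCat.of k)) := Over.mk (C ↘ Spec (CommRingCat.of k))
  haveI : IsProper O.hom := ‹IsProper (C ↘ Spec (CommRingCat.of k))›
  haveI : GeometricallyIntegral O.hom := Cube.geometricallyIntegral_of_isIntegral (C ↘ Spec (CommRingCat.of k))
  have h := MumfordEuler.E_ext (k := k) (X := O) a b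
  have e : ∀ (z : Pic C), chi k z = MumfordEuler.E O z := fun z =>
    EulerPull.euler_eq_of_hasCls ⟨isInv_rep z, cls_rep z⟩ (Dual.hasCls_rep z)
  rw [e, e, ← h]
  exact EulerPull.euler_eq_of_hasCls ⟨isInv_rep _, cls_rep _⟩ (Dual.hasCls_rep _)

include hd in
theorem isect_box (a b c d : Pic C) :
    isect k (box k a b) (box k c d) = dg k a * dg k d + dg k b * dg k c := by
  rw [isect, ← box_mul, ← box_one k (C := C), chi_box, chi_box, chi_box, chi_box, chi_eq k a, chi_eq k b, chi_eq k c,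
    chi_eq k d, chi_eq k (a * c), chi_eq k (b * d), dg_mul k hd, dg_mul k hd]
  ring

section Slices

variable (y : Spec (CommRingCat.of k) ⟶ C) (hy : y ≫ (C ↘ Spec (CommRingCat.of k)) = 𝟙 _)

/-- The slice `{y} × C`. -/
def vSlice : C ⟶ XX k C :=
  pullback.lift ((C ↘ Spec (CommRingCat.of k)) ≫ y) (𝟙 C) (by rw [Category.assoc, hy, Category.comp_id, Category.id_comp])

/-- The slice `C × {y}`. -/
def hSlice : C ⟶ XX k C :=
  pullback.lift (𝟙 C) ((C ↘ Spec (CommRingCat.of k)) ≫ y) (by rw [Category.assoc, hy, Category.comp_id, Category.id_comp])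

include hd in
theorem slice_vert (hy' : PicF.IsInvertible (ClSub.idealMod y.ker)) :
    ∃ (_ : IsClosedImmersion (vSlice k y hy)) (hI : PicF.IsInvertible (ClSub.idealMod (vSlice k y hy).ker)),
      vSlice k y hy ≫ XX k C ↘ Spec (CommRingCat.of k) = C ↘ Spec (CommRingCat.of k) ∧
      clsMod hI = pull (p₁ k) (clsMod hy') ∧ ∀ a b : Pic C, pull (vSlice k y hy) (box k a b) = b := by
  have h₁ : Curve.IsSmoothProperCurve k C (C ↘ Spec (CommRingCat.of k)) :=
    ⟨inferInstance, inferInstance, inferInstance, hd⟩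
  have hP : IsPullback (p₁ k) (p₂ k) (C ↘ Spec (CommRingCat.of k)) (C ↘ Spec (CommRingCat.of k)) :=
    IsPullback.of_hasPullback _ _
  have h2 : vSlice k y hy ≫ p₂ k = 𝟙 C := pullback.lift_snd _ _ _
  have h1 : vSlice k y hy ≫ p₁ k = (C ↘ Spec (CommRingCat.of k)) ≫ y := pullback.lift_fst _ _ _
  haveI hc := CurveProd28.isClosedImmersion_slice k (p₁ k) (p₂ k) hP h₁ y hy _ h2 h1
  obtain ⟨hpr, hsm, hint, hdim⟩ := surf k hd
  obtain ⟨hi, hid⟩ := CurveProd28.slice_props k (p₁ k) (p₂ k) hP rfl h₁ h₁ y hy _ h2 h1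
  have hI := HodgeIndex.inv_curve k hdim hi hid
  haveI := CurveProd28.isClosedImmersion_pt k y hy
  refine ⟨hc, hI, CurveProd28.slice_over k (p₁ k) (p₂ k) hP rfl h₁ y hy _ h2 h1, ?_, fun a b => ?_⟩
  · rw [← Cube.clsMod_pullback, eq_comm, Cube.clsMod_eq_iff]
    exact HodgeIndex.nonempty_pullback_idealMod y _ (C ↘ Spec (CommRingCat.of k)) (p₁ k) h1
      (CurveProd28.ker_slice k (p₁ k) (p₂ k) hP h₁ y hy _ h2 h1) hy' hI
  · rw [box, map_mul, Cube.pull_comp, Cube.pull_comp, h1, h2, Cube.pull_id, ← Cube.pull_comp,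
      Cube.pic_spec_field_eq_one (pull y a), map_one, one_mul]

include hd in
theorem slice_hor (hy' : PicF.IsInvertible (ClSub.idealMod y.ker)) :
    ∃ (_ : IsClosedImmersion (hSlice k y hy)) (hI : PicF.IsInvertible (ClSub.idealMod (hSlice k y hy).ker)),
      hSlice k y hy ≫ XX k C ↘ Spec (CommRingCat.of k) = C ↘ Spec (CommRingCat.of k) ∧
      clsMod hI = pull (p₂ k) (clsMod hy') ∧ ∀ a b : Pic C, pull (hSlice k y hy) (box k a b) = a := by
  have h₁ : Curve.IsSmoothProperCurve k C (C ↘ Spec (CommRingCat.of k)) :=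
    ⟨inferInstance, inferInstance, inferInstance, hd⟩
  have hP : IsPullback (p₁ k) (p₂ k) (C ↘ Spec (CommRingCat.of k)) (C ↘ Spec (CommRingCat.of k)) :=
    IsPullback.of_hasPullback _ _
  have h1 : hSlice k y hy ≫ p₁ k = 𝟙 C := pullback.lift_fst _ _ _
  have h2 : hSlice k y hy ≫ p₂ k = (C ↘ Spec (CommRingCat.of k)) ≫ y := pullback.lift_snd _ _ _
  have hp : p₂ k ≫ (C ↘ Spec (CommRingCat.of k)) = XX k C ↘ Spec (CommRingCat.of k) := pullback.condition.symm
  haveI hc := CurveProd28.isClosedImmersion_slice k (p₂ k) (p₁ k) hP.flip h₁ y hy _ h1 h2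
  obtain ⟨hpr, hsm, hint, hdim⟩ := surf k hd
  obtain ⟨hi, hid⟩ := CurveProd28.slice_props k (p₂ k) (p₁ k) hP.flip hp h₁ h₁ y hy _ h1 h2
  have hI := HodgeIndex.inv_curve k hdim hi hid
  haveI := CurveProd28.isClosedImmersion_pt k y hy
  refine ⟨hc, hI, CurveProd28.slice_over k (p₂ k) (p₁ k) hP.flip hp h₁ y hy _ h1 h2, ?_, fun a b => ?_⟩
  · rw [← Cube.clsMod_pullback, eq_comm, Cube.clsMod_eq_iff]
    exact HodgeIndex.nonempty_pullback_idealMod y _ (C ↘ Spec (CommRingCat.of k)) (p₂ k) h2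
      (CurveProd28.ker_slice k (p₂ k) (p₁ k) hP.flip h₁ y hy _ h1 h2) hy' hI
  · rw [box, map_mul, Cube.pull_comp, Cube.pull_comp, h1, h2, Cube.pull_id, ← Cube.pull_comp,
      Cube.pic_spec_field_eq_one (pull y b), map_one, mul_one]

end Slices

include hd in
theorem exists_point : ∃ (y : Spec (CommRingCat.of k) ⟶ C) (_ : y ≫ (C ↘ Spec (CommRingCat.of k)) = 𝟙 _)
    (hI : PicF.IsInvertible (ClSub.idealMod y.ker)), dg k (clsMod hI) = -1 := by
  have h1 : hc k 0 (1 : Pic C) ≠ 0 := by
    rw [← (Cube.clsMod_eq_one_iff (Euler.isInvertible_structure (X := C))).2 ⟨Iso.refl _⟩, ← finrank_eq_hc,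
      CurveRR.finrank_H0_structure_eq_one k (X := C)]
    exact one_ne_zero
  obtain ⟨y, hy, hI, -⟩ := exists_point_drop k hd 1 h1
  exact ⟨y, hy, hI, by rw [← deg_eq_dg]; exact CurveProd28.deg_idealMod_pt k hd y hy⟩

include hd in
/-- An ample class. -/
theorem exists_ample_box (p : Pic C) (hp : 0 < dg k p) :
    ∃ (H : (XX k C).Modules) (hH : CohB1.IsAmple H), clsMod hH.1 = box k p p := by
  haveI := Euler.isNoetherian_of_proper (X := C) k
  have hA : CohB1.IsAmple (rep p) := (Euler.isAmple_iff_deg_pos k hd (isInv_rep p)).2 (by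
    rw [deg_eq_dg k (isInv_rep p), cls_rep]; exact hp)
  refine ⟨_, RLpsi8.isAmple_externalTensor (C ↘ Spec (CommRingCat.of k)) (C ↘ Spec (CommRingCat.of k)) _ _ hA hA, ?_⟩
  rw [Cube.clsMod_tensorMod (Ample.isInvertible_pullback _ (isInv_rep p)) (Ample.isInvertible_pullback _ (isInv_rep p)),
    Cube.clsMod_pullback _ (isInv_rep p), Cube.clsMod_pullback _ (isInv_rep p), cls_rep]
  rfl

/-- The dimension of the cohomology of a class on the square. -/
def hX (i : ℕ) (z : Pic (XX k C)) : ℕ := Module.finrank k (Coh.HH (XX k C) (rep z) i)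

theorem finrank_eq_hX {L : (XX k C).Modules} (hL : PicF.IsInvertible L) (i : ℕ) :
    Module.finrank k (Coh.HH (XX k C) L i) = hX k i (clsMod hL) := by
  obtain ⟨e⟩ := (Cube.clsMod_eq_iff hL (isInv_rep _)).1 (cls_rep (clsMod hL)).symm
  exact (Euler.hhEquiv (A := k) e i).finrank_eq

include hd in
theorem chi_eq_hX (z : Pic (XX k C)) : chi k z = (hX k 0 z : ℤ) - hX k 1 z + hX k 2 z := by
  obtain ⟨hpr, hsm, hint, hdim⟩ := surf k hd
  obtain ⟨y, hy, hI, hp⟩ := exists_point k hd
  obtain ⟨H, hH, -⟩ := exists_ample_box k hd (clsMod hI)⁻¹ (by rw [dg_inv k hd, hp]; norm_num)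
  exact HodgeIndex.euler_eq_three k hdim.le hH (Euler.isCoh_of_isInvertible (isInv_rep z))

include hd in
/-- No sections when one factor has none. -/
theorem hX0_eq_zero (a b : Pic C) (hb : hc k 0 b = 0) : hX k 0 (box k a b) = 0 := by
  obtain ⟨hpr, hsm, hint, hdim⟩ := surf k hd
  obtain ⟨y, hy, hI, hp⟩ := exists_point k hd
  obtain ⟨hc', hJ, hov, hcls, hpull⟩ := slice_vert k hd y hy hI
  have step : ∀ a : Pic C, hX k 0 (box k a b) ≤ hX k 0 (box k (a * clsMod hI) b) := fun a => by
    have e : box k (a * clsMod hI) b = box k a b * clsMod hJ := by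
      rw [hcls]; simp only [box, map_mul]; exact mul_right_comm _ _ _
    have h := (seq k (vSlice k y hy) hov hJ hd.le (box k a b)).1 (n := 0) rfl rfl rfl
    rw [hpull, ← e] at h
    have h0 : Module.finrank k (Coh.HH C (rep b) 0) = 0 := hb
    rw [h0, Nat.add_zero] at h
    exact h
  have hn : ∀ n : ℕ, hX k 0 (box k a b) ≤ hX k 0 (box k (a * clsMod hI ^ n) b) := fun n => by
    induction n with
    | zero => simp
    | succ n ih => exact ih.trans ((step _).trans_eq (by rw [pow_succ, mul_assoc]))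
  obtain ⟨H, hH, hcl⟩ := exists_ample_box k hd (clsMod hI)⁻¹ (by rw [dg_inv k hd, hp]; norm_num)
  obtain ⟨N, hN⟩ : ∃ N : ℕ, dg k a + dg k b < N := ⟨(dg k a + dg k b).toNat + 1, by omega⟩
  refine Nat.eq_zero_of_le_zero ((hn N).trans (le_of_eq ?_))
  by_contra hne
  have hnt : Nontrivial (Coh.HH (XX k C) (rep (box k (a * clsMod hI ^ N) b)) 0) :=
    Module.nontrivial_of_finrank_pos (R := k) (Nat.pos_of_ne_zero hne)
  have h := HodgeIndex.isect_nonneg_of_pLe k hdim hH
    (cls_rep (box k (a * clsMod hI ^ N) b) ▸ SurfRR28.pLe_one_of_nontrivial (isInv_rep _) hnt)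
  rw [hcl, isect_box k hd, dg_mul k hd, dg_pow k hd, dg_inv k hd, hp] at h
  linarith

include hd in
/-- At most the product of the numbers of sections. -/
theorem hX0_le (a : Pic C) : ∀ b : Pic C, hX k 0 (box k a b) ≤ hc k 0 a * hc k 0 b := by
  obtain ⟨hpr, hsm, hint, hdim⟩ := surf k hd
  suffices ∀ n, ∀ b : Pic C, hc k 0 b = n → hX k 0 (box k a b) ≤ hc k 0 a * hc k 0 b from fun b => this _ b rfl
  intro n
  induction n using Nat.strong_induction_on with
  | _ n ih =>
    intro b hb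
    by_cases h0 : hc k 0 b = 0
    · rw [hX0_eq_zero k hd a b h0]; exact Nat.zero_le _
    obtain ⟨y, hy, hI, hlt⟩ := exists_point_drop k hd b h0
    obtain ⟨hc', hJ, hov, hcls, hpull⟩ := slice_hor k hd y hy hI
    have e : box k a (b * clsMod hI) = box k a b * clsMod hJ := by
      rw [hcls]; simp only [box, map_mul]; exact (mul_assoc _ _ _).symm
    have h : hX k 0 (box k a b) ≤ hX k 0 (box k a (b * clsMod hI)) + hc k 0 a := by
      have := (seq k (hSlice k y hy) hov hJ hd.le (box k a b)).1 (n := 0) rfl rfl rfl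
      rw [hpull, ← e] at this
      exact this
    have h2 := ih _ (hb ▸ hlt) (b * clsMod hI) rfl
    calc hX k 0 (box k a b) ≤ hc k 0 a * hc k 0 (b * clsMod hI) + hc k 0 a := by omega
      _ = hc k 0 a * (hc k 0 (b * clsMod hI) + 1) := by ring
      _ ≤ hc k 0 a * hc k 0 b := Nat.mul_le_mul_left _ hlt

variable (g : ℕ) (hgen : Curv2.genus k C = g)

include hd hgen in
theorem hc1_eq_zero {a : Pic C} (ha : 2 * (g : ℤ) - 2 < dg k a) : hc k 1 a = 0 := by
  obtain ⟨hW, hdw, -, -, hs, -, hneg, -, -⟩ := exists_canonical k hd g hgen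
  rw [hs]
  exact hneg _ (by rw [dg_mul k hd, dg_inv k hd, hdw]; omega)

include hd hgen in
/-- External products of non-special classes. -/
theorem box_coh {a b : Pic C} (ha : 2 * (g : ℤ) - 2 < dg k a) (hb : 2 * (g : ℤ) - 2 < dg k b) :
    hX k 1 (box k a b) = 0 ∧ hX k 2 (box k a b) = 0 ∧ (hX k 0 (box k a b) : ℤ) = chi k a * chi k b := by
  obtain ⟨hpr, hsm, hint, hdim⟩ := surf k hd
  obtain ⟨y, hy, hI, hp⟩ := exists_point k hd
  obtain ⟨hc₁, hJ₁, hov₁, hcls₁, hpull₁⟩ := slice_vert k hd y hy hI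
  obtain ⟨hc₂, hJ₂, hov₂, hcls₂, hpull₂⟩ := slice_hor k hd y hy hI
  obtain ⟨q, hq⟩ : ∃ q, q = (clsMod hI)⁻¹ := ⟨_, rfl⟩
  have hdq : dg k q = 1 := by rw [hq, dg_inv k hd, hp]; norm_num
  have hge : ∀ (c : Pic C) (n : ℕ), dg k c ≤ dg k (c * q ^ n) := fun c n => by
    rw [dg_mul k hd, dg_pow k hd, hdq]; omega
  have h2a : ∀ n : ℕ, hX k 2 (box k a b) = hX k 2 (box k (a * q ^ n) b) := fun n => by
    induction n with
    | zero => simp
    | succ n ih =>
      refine ih.trans ?_
      have e : box k (a * q ^ n) b = box k (a * q ^ (n + 1)) b * clsMod hJ₁ := by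
        rw [hcls₁, show clsMod hI = q⁻¹ by rw [hq, inv_inv], pow_succ]
        simp only [box, map_mul, map_inv]
        rw [mul_right_comm _ (pull (p₂ k) b)]
        simp [mul_assoc, mul_comm, mul_left_comm]
      have h := (seq k (vSlice k y hy) hov₁ hJ₁ hd.le (box k (a * q ^ (n + 1)) b)).2.2.2.2.2.1
        (by rw [hpull₁]; exact hc1_eq_zero k hd g hgen hb)
      rw [← e] at h
      exact h
  have h2b : ∀ (a' : Pic C), 2 * (g : ℤ) - 2 < dg k a' → ∀ n : ℕ,
      hX k 2 (box k a' b) = hX k 2 (box k a' (b * q ^ n)) := fun a' ha' n => by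
    induction n with
    | zero => simp
    | succ n ih =>
      refine ih.trans ?_
      have e : box k a' (b * q ^ n) = box k a' (b * q ^ (n + 1)) * clsMod hJ₂ := by
        rw [hcls₂, show clsMod hI = q⁻¹ by rw [hq, inv_inv], pow_succ]
        simp only [box, map_mul, map_inv]
        simp [mul_assoc, mul_comm, mul_left_comm]
      have h := (seq k (hSlice k y hy) hov₂ hJ₂ hd.le (box k a' (b * q ^ (n + 1)))).2.2.2.2.2.1
        (by rw [hpull₂]; exact hc1_eq_zero k hd g hgen ha')
      rw [← e] at h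
      exact h
  obtain ⟨H, hH, hcl⟩ := exists_ample_box k hd q (by rw [hdq]; norm_num)
  obtain ⟨N, hN⟩ := SerreVanish.exists_forall_subsingleton k hH
    (Euler.isCoh_of_isInvertible (isInv_rep (box k a b)))
  have h2 : hX k 2 (box k a b) = 0 := by
    have hL := Ample.isInvertible_tensorMod (isInv_rep (box k a b)) (Ample.isInvertible_tensorPow hH.1 N)
    have hc : clsMod hL = box k (a * q ^ N) (b * q ^ N) := by
      rw [Cube.clsMod_tensorMod (isInv_rep _) (Ample.isInvertible_tensorPow hH.1 N), cls_rep,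
        Cube.clsMod_tensorPow hH.1 N, hcl, ← box_pow, ← box_mul]
    rw [h2a N, h2b _ (ha.trans_le (hge a N)) N, ← hc, ← finrank_eq_hX k hL]
    haveI := hN N le_rfl 2 (by omega)
    exact Module.finrank_zero_of_subsingleton
  obtain ⟨-, -, -, -, -, hrr, -, -, -⟩ := exists_canonical k hd g hgen
  have hA := hrr a
  have hB := hrr b
  rw [hc1_eq_zero k hd g hgen ha, Nat.cast_zero, sub_zero] at hA
  rw [hc1_eq_zero k hd g hgen hb, Nat.cast_zero, sub_zero] at hB
  have h := chi_eq_hX k hd (box k a b)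
  rw [chi_box, h2, Nat.cast_zero, add_zero, ← hA, ← hB] at h
  have hle := hX0_le k hd a b
  rw [← hA, ← hB]
  have hle' : (hX k 0 (box k a b) : ℤ) ≤ (hc k 0 a : ℤ) * hc k 0 b := by exact_mod_cast hle
  exact ⟨by omega, h2, by omega⟩

end GrothLib.HypSq28
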