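import Groth.Agent.Lib.HypSq28.Main
import Groth.Agent.Lib.HypSq28.Divisors
import Groth.Agent.Lib.CurveMult.ProjSmooth
import Groth.Agent.Lib.HodgeIndex.Pullback
import Groth.Agent.Lib.HodgeIndex.IdealMul
import Groth.Agent.Lib.HodgeIndex.IdealLe
import Groth.Agent.Lib.Seesaw26.ProductPic
import Groth.Agent.Lib.Goodman.Effective

/-!
# The diagonal and the graph of the involution add up to the box class
-/

set_option autoImplicit false
set_option backward.isDefEq.respectTransparency false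
set_option linter.all false
set_option maxHeartbeats 1000000

universe u

open CategoryTheory CategoryTheory.Limits AlgebraicGeometry TopologicalSpace

noncomputable section

namespace GrothLib.HypSq28

open GrothLib.Cube (Pic clsMod pull)
open GrothLib.HodgeIndex (rep isInv_rep cls_rep chi euler_eq_chi chi_one isect hh)

attribute [local instance] xOver
attribute [local instance] CurveMult.P1Split.overP1

variable (k : Type u) [Field k] [IsAlgClosed k]

local notation "PP" => CohB1.ProjSpace 1 k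

theorem eq_one_of_dg_zero_P1 (a : Pic PP) (ha : dg k a = 0) : a = 1 := by
  obtain ⟨e⟩ := CurveMult.P1Split.nonempty_iso_O1 k (isInv_rep a)
  rw [← cls_rep a, Cube.clsMod_eq_one_iff]
  rw [deg_eq_dg k (isInv_rep a), cls_rep, ha] at e
  exact ⟨e ≪≫ CMReg.nonempty_twist_zero.some⟩

/-- The class of the ideal of the diagonal of the line. -/
theorem diag_P1 : ∃ (o : Pic PP) (ho : o = clsMod (CurveMult.P1Split.inv_O1 k 1))
    (hD : PicF.IsInvertible (ClSub.idealMod (gam k (𝟙 PP) (Category.id_comp _)).ker)),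
    IsClosedImmersion (gam k (𝟙 PP) (Category.id_comp (PP ↘ Spec (CommRingCat.of k)))) ∧
      clsMod hD = box k o⁻¹ o⁻¹ := by
  haveI : Smooth (PP ↘ Spec (CommRingCat.of k)) := CurveMult.smooth_toSpec 1 k
  have hd := CurveMult.P1Split.dim_P1 k
  obtain ⟨hpr, hsm, hint, hdim⟩ := surf k hd
  obtain ⟨y, hy, hy', -⟩ := exists_point k (C := PP) hd
  obtain ⟨hcl, hD, hov, hbox, -, hint', -, -⟩ := graph k hd (𝟙 PP) (Category.id_comp _)
  refine ⟨_, rfl, hD, hcl, ?_⟩
  haveI : GeometricallyIntegral (PP ↘ Spec (CommRingCat.of k)) :=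
    Cube.geometricallyIntegral_of_isIntegral (PP ↘ Spec (CommRingCat.of k))
  have h1 : Subsingleton (Coh.HH PP (Coh.structureModule PP) 1) := by
    haveI := CurveMult.P1Split.subsingleton_H1 k (d := 0) (by norm_num)
    exact (Euler.hhEquiv (A := k) (CMReg.nonempty_twist_zero (n := 1) (k := k)).some 1).toEquiv.symm.subsingleton
  obtain ⟨A, B, hA, hB, hAB⟩ := Seesaw26.exists_box (PP ↘ Spec (CommRingCat.of k)) (PP ↘ Spec (CommRingCat.of k))
    y hy h1 _ hD
  have ho : dg k (clsMod (CurveMult.P1Split.inv_O1 k 1)) = 1 := by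
    rw [← deg_eq_dg, CurveMult.P1Split.deg_O1]
  have e : clsMod hD = box k (clsMod hA) (clsMod hB) := hAB
  have e1 := hint' (box k (clsMod (CurveMult.P1Split.inv_O1 k 1)) 1)
  have e2 := hint' (box k 1 (clsMod (CurveMult.P1Split.inv_O1 k 1)))
  rw [hbox, Cube.pull_id, mul_one, e, isect_box k hd, dg_one, ho] at e1
  rw [hbox, Cube.pull_id, one_mul, e, isect_box k hd, dg_one, ho] at e2
  have ha : clsMod hA = (clsMod (CurveMult.P1Split.inv_O1 k 1))⁻¹ :=
    eq_inv_of_mul_eq_one_left (eq_one_of_dg_zero_P1 k _ (by rw [dg_mul k hd, ho]; linarith))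
  have hb : clsMod hB = (clsMod (CurveMult.P1Split.inv_O1 k 1))⁻¹ :=
    eq_inv_of_mul_eq_one_left (eq_one_of_dg_zero_P1 k _ (by rw [dg_mul k hd, ho]; linarith))
  rw [e, ha, hb]

variable {C : Scheme.{u}} [C.Over (Spec (CommRingCat.of k))]
  [IsProper (C ↘ Spec (CommRingCat.of k))] [Smooth (C ↘ Spec (CommRingCat.of k))] [IsIntegral C]
  (hd : topologicalKrullDim C = 1) (g : ℕ) (hgen : Curv2.genus k C = g)

include hd hgen in
/-- `Δ + Γ` is linearly equivalent to `p₁*L + p₂*L`. -/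
theorem diag_add_graph (hg : 2 ≤ g) (κ : C ⟶ CohB1.ProjSpace 1 k)
    (hκ : κ ≫ CohB1.ProjSpace.toSpec 1 k = (C ↘ Spec (CommRingCat.of k)))
    [IsFinite κ] [Flat κ] (hκ2 : ∀ y : ↥(CohB1.ProjSpace 1 k), κ.finrank y = 2)
    (σ : C ⟶ C) (hσ : σ ≫ κ = κ) (hσ1 : σ ≠ 𝟙 C)
    (hσp : σ ≫ (C ↘ Spec (CommRingCat.of k)) = (C ↘ Spec (CommRingCat.of k))) :
    ∃ (hL : PicF.IsInvertible ((Scheme.Modules.pullback κ).obj (Twist.twistProjSpace 1 k 1)))
      (hΔ : PicF.IsInvertible (ClSub.idealMod (gam k (𝟙 C) (Category.id_comp _)).ker))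
      (hΓ : PicF.IsInvertible (ClSub.idealMod (gam k σ hσp).ker)),
      (clsMod hΔ)⁻¹ * (clsMod hΓ)⁻¹ = box k (clsMod hL) (clsMod hL) := by
  obtain ⟨hL, hΓ, hl, -, -, hσd, hfix, hbox, hnor, hint⟩ := setup k hd g hgen hg κ hκ hκ2 σ hσ hσp
  obtain ⟨hclΓ, -, -, -, -, -, hiΓ, hdΓ⟩ := graph k hd σ hσp
  obtain ⟨hclΔ, hΔ, -, hboxΔ, hnorΔ, hintΔ, hiΔ, hdΔ⟩ := graph k hd (𝟙 C) (Category.id_comp _)
  obtain ⟨hW, hdw, -, -, -, -, -, -, -⟩ := exists_canonical k hd g hgen
  obtain ⟨hpr, hsm, hint2, hdim⟩ := surf k hd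
  haveI : CurveRR.RegCurve C := CurveRR.regCurve_of_regular (k := k) hd (HodgeIndex.regular_of_smooth k)
  obtain ⟨o, ho, hD, hclD, hDo⟩ := diag_P1 k
  haveI : IsLocallyNoetherian (XX k C) := LocallyOfFiniteType.isLocallyNoetherian (XX k C ↘ Spec (CommRingCat.of k))
  refine ⟨hL, hΔ, hΓ, ?_⟩
  let K2 : XX k C ⟶ XX k PP := pullback.lift (p₁ k ≫ κ) (p₂ k ≫ κ) (by
    show (p₁ k ≫ κ) ≫ CohB1.ProjSpace.toSpec 1 k = (p₂ k ≫ κ) ≫ CohB1.ProjSpace.toSpec 1 k
    rw [Category.assoc, Category.assoc, hκ]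
    exact pullback.condition)
  have hK1 : K2 ≫ p₁ k = p₁ k ≫ κ := pullback.lift_fst _ _ _
  have hK2 : K2 ≫ p₂ k = p₂ k ≫ κ := pullback.lift_snd _ _ _
  let Δ₁ := gam k (𝟙 PP) (Category.id_comp _)
  have hfac : ∀ (φ : C ⟶ C) (hφ : φ ≫ (C ↘ Spec (CommRingCat.of k)) = (C ↘ Spec (CommRingCat.of k))),
      φ ≫ κ = κ → gam k φ hφ ≫ K2 = κ ≫ Δ₁ := fun φ hφ hφκ => by
    apply pullback.hom_ext
    · rw [Category.assoc, Category.assoc, hK1, ← Category.assoc, pullback.lift_fst, Category.id_comp,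
        pullback.lift_fst, Category.comp_id]
    · rw [Category.assoc, Category.assoc, hK2, ← Category.assoc, pullback.lift_snd, pullback.lift_snd,
        Category.comp_id, hφκ]
  have hle : ∀ (φ : C ⟶ C) (hφ : φ ≫ (C ↘ Spec (CommRingCat.of k)) = (C ↘ Spec (CommRingCat.of k))),
      φ ≫ κ = κ → Δ₁.ker.comap K2 ≤ (gam k φ hφ).ker := fun φ hφ hφκ => by
    rw [← Scheme.IdealSheafData.le_map_iff_comap_le, Scheme.IdealSheafData.map_ker, hfac φ hφ hφκ]
    exact Scheme.Hom.le_ker_comp _ _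
  have hη : K2 (genericPoint (XX k C)) ∉ Δ₁.ker.support := by
    intro hmem
    obtain ⟨y, hy, -, -⟩ := exists_point k hd
    haveI := hclD
    have hall : ∀ z : XX k C, K2 z ∈ Set.range Δ₁ := fun z => by
      have h : K2 z ∈ (Δ₁.ker.support : Set (XX k PP)) :=
        ((genericPoint_specializes z).map K2.continuous).mem_closed Δ₁.ker.support.isClosed hmem
      rwa [Scheme.Hom.support_ker, Δ₁.isClosedEmbedding.isClosed_range.closure_eq] at h
    have hconst : ∀ c : C, κ c = κ (y ((C ↘ Spec (CommRingCat.of k)) c)) := fun c => by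
      obtain ⟨w, hw⟩ := hall (hSlice k y hy c)
      have e1 : p₁ k (Δ₁ w) = w := congr($(pullback.lift_fst (f := PP ↘ Spec (CommRingCat.of k))
        (g := PP ↘ Spec (CommRingCat.of k)) (𝟙 PP) (𝟙 PP) rfl) w)
      have e2 : p₂ k (Δ₁ w) = w := congr($(pullback.lift_snd (f := PP ↘ Spec (CommRingCat.of k))
        (g := PP ↘ Spec (CommRingCat.of k)) (𝟙 PP) (𝟙 PP) rfl) w)
      rw [hw] at e1 e2
      have f1 : hSlice k y hy ≫ K2 ≫ p₁ k = κ := by
        rw [hK1, ← Category.assoc, hSlice, pullback.lift_fst, Category.id_comp]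
      have f2 : hSlice k y hy ≫ K2 ≫ p₂ k = (C ↘ Spec (CommRingCat.of k)) ≫ y ≫ κ := by
        rw [hK2, ← Category.assoc, hSlice, pullback.lift_snd, Category.assoc]
      exact ((congr($f1 c)).symm.trans e1).trans (e2.symm.trans congr($f2 c))
    obtain ⟨_, ⟨a, rfl⟩, _, ⟨b, rfl⟩, hab⟩ := CurveMult.range_nontrivial_of_isFinite k κ
    haveI : Subsingleton ↥(Spec (CommRingCat.of k)) := inferInstanceAs (Subsingleton (PrimeSpectrum k))
    exact hab ((hconst a).trans ((congrArg (fun z => κ (y z)) (Subsingleton.elim _ _)).trans (hconst b).symm))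
  have hJe := isEffCartier_comap_dominant K2 (IdealModSec.isEffCartier_of_isInvertible hD) hη
  have hJ := IdealModSec.isInvertible_of_isEffCartier hJe
  have hJc : clsMod hJ = box k (clsMod hL)⁻¹ (clsMod hL)⁻¹ := by
    let i' := (Δ₁.ker.comap K2).subschemeι
    have hker : i'.ker = Δ₁.ker.subschemeι.ker.comap K2 := by
      rw [Scheme.IdealSheafData.ker_subschemeι, Scheme.IdealSheafData.ker_subschemeι]
    obtain ⟨e⟩ := HodgeIndex.nonempty_pullback_idealMod Δ₁.ker.subschemeι i'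
      ((Δ₁.ker.comap K2).subschemeMap Δ₁.ker K2 (Δ₁.ker.le_map_comap K2)) K2
      (Scheme.IdealSheafData.subschemeMap_subschemeι _ _ _ _).symm hker
      (by rw [Scheme.IdealSheafData.ker_subschemeι]; exact hD)
      (by rw [Scheme.IdealSheafData.ker_subschemeι]; exact hJ)
    rw [Scheme.IdealSheafData.ker_subschemeι, Scheme.IdealSheafData.ker_subschemeι] at e
    rw [← (Cube.clsMod_eq_iff (Ample.isInvertible_pullback K2 hD) hJ).2 ⟨e⟩, Cube.clsMod_pullback K2 hD, hDo, box,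
      map_mul, Cube.pull_comp, Cube.pull_comp, hK1, hK2, ← Cube.pull_comp, ← Cube.pull_comp, map_inv, ho,
      ← Cube.clsMod_pullback κ (CurveMult.P1Split.inv_O1 k 1)]
    rfl
  haveI := hiΓ
  haveI := hiΔ
  have hne : (gam k (𝟙 C) (Category.id_comp _)).ker ≠ (gam k σ hσp).ker := fun h => hσ1 (by
    haveI := hclΔ
    have e := IsClosedImmersion.lift_fac (gam k (𝟙 C) (Category.id_comp _)) (gam k σ hσp) h.le
    have e1 := congrArg (· ≫ p₁ k) e
    have e2 := congrArg (· ≫ p₂ k) e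
    simp only [Category.assoc, pullback.lift_fst, pullback.lift_snd, Category.comp_id] at e1 e2
    rw [← e2, e1])
  have hEΔ := IdealModSec.isEffCartier_of_isInvertible hΔ
  have hEΓ := IdealModSec.isEffCartier_of_isInvertible hΓ
  have hM := IdealModSec.isInvertible_of_isEffCartier (GrothLib.BlowUp.isEffCartierIdeal_mul hEΔ hEΓ)
  have hp := HodgeIndex.pLe_idealMod (le_mul_of_le hEΔ hEΓ hne (hle (𝟙 C) _ (Category.id_comp κ)) (hle σ hσp hσ))
    hJ hM
  rw [HodgeIndex.cls_idealMod_mul hM hΔ hΓ, hJc] at hp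
  have hz : Kodaira.PLe (1 : Pic (XX k C)) (box k (clsMod hL) (clsMod hL) * (clsMod hΔ * clsMod hΓ)) := by
    have h := hp.mul_right (box k (clsMod hL) (clsMod hL))
    rw [box_inv, inv_mul_cancel] at h
    rwa [mul_comm]
  obtain ⟨H, hH, hcl⟩ := exists_ample_box k hd (clsMod hL) (by rw [hl]; norm_num)
  have h0 : isect k (box k (clsMod hL) (clsMod hL) * (clsMod hΔ * clsMod hΓ)) (clsMod hH.1) = 0 := by
    rw [HodgeIndex.isect_mul_left k hdim.le, HodgeIndex.isect_mul_left k hdim.le, hcl, isect_box k hd,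
      HodgeIndex.isect_comm k (clsMod hΔ), HodgeIndex.isect_comm k (clsMod hΓ), hintΔ, hint, hboxΔ, hbox, Cube.pull_id,
      dg_mul k hd, dg_mul k hd, hσd, hl]
    norm_num
  have h1 := Goodman.eq_one_of_pLe_of_degree_zero k hdim hH hz h0
  rw [← mul_inv, eq_comm]
  exact eq_inv_of_mul_eq_one_left h1

end GrothLib.HypSq28
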